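import Cfsg.Agent.H126.PwO.FiveThree_m3
import Cfsg.Agent.ClassicalGeometry.SympSiegel
import Mathlib
import Cfsg.Agent.H934.HeisE6_m3
import Cfsg.Agent.FastGrp
import Cfsg.Agent.Prune
set_option linter.all false
prune_inst 0x7ffdfcfbfbbc7ddfffff7e7ffeffdffc39911fffe6fffd4bffe0e7ff3bdf238c0fcdfbaf8de092fe1ff6e21410ba7853fffffbbfea6bfe7ffffd5ff45ffbee1ff7ffbd08519f9cb41fbe0fff6bf07f8e7f3fffffffffffffffffffffffffffbeffffffffffff
open scoped Cfsg.Agent.FastGrp

-- part: H750/F43/UTwo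
section
/-!
# Fixed points of a unipotent element of `Sp₆(3)` on `V₁₄` (S2465, F₄(3); helper750)

* `exists_wall` : an element `l ≠ 1` of odd order has a vector `w` with `f(w, l w) ≠ 0`;
* `fix_le` : `dim C(l) ≤ 9` on `V₁₄` and, if `l` is not a transvection, `dim C(l) ≤ 8`.
-/

set_option autoImplicit false

namespace Cfsg.Agent.H750.F43

open Cfsg Matrix Module
open Cfsg.Agent.H700.F43
open Cfsg.Agent.ClassicalGeometry.SympBasic

local notation "f" => sympForm 3 F3

/-- basis vectors -/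
abbrev eb (a : Fin 3 ⊕ Fin 3) : V6 := Pi.single a 1

theorem fm (l : Sp) (u v : V6) : f (l.1 *ᵥ u) (l.1 *ᵥ v) = f u v := sympForm_mulVec l.2 u v

theorem ext_mv {g h : Sp} (H : ∀ v : V6, g.1 *ᵥ v = h.1 *ᵥ v) : g = h := by
  apply Subtype.ext
  rw [← Matrix.mulVec_injective.eq_iff]
  funext v
  exact H v

theorem mul_mv (g h : Sp) (v : V6) : (g * h).1 *ᵥ v = g.1 *ᵥ (h.1 *ᵥ v) := by
  rw [Matrix.mulVec_mulVec]
  rfl

theorem one_mv (v : V6) : (1 : Sp).1 *ᵥ v = v := Matrix.one_mulVec v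

theorem inv_mv (g : Sp) (v : V6) : (g⁻¹).1 *ᵥ (g.1 *ᵥ v) = v := by
  rw [← mul_mv, inv_mul_cancel, one_mv]

/-- an element of odd order, `≠ 1`, has a vector `w` with `f(w, l w) ≠ 0` -/
theorem exists_wall {l : Sp} (h1 : l ≠ 1) (hu : Odd (orderOf l)) : ∃ w : V6, f w (l.1 *ᵥ w) ≠ 0 := by
  by_contra hno
  push Not at hno
  have h2 : ∀ x y : V6, f (l.1 *ᵥ x) y = f x (l.1 *ᵥ y) := by
    intro x y
    have h3 := hno (x + y)
    rw [Matrix.mulVec_add, sympForm_add_left, sympForm_add_right, sympForm_add_right, hno x, hno y, zero_add,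
      add_zero] at h3
    rw [sympForm_swap (l.1 *ᵥ x) y]
    linear_combination -h3
  have h4 : l ^ 2 = 1 := by
    apply ext_mv
    intro v
    rw [one_mv]
    apply eq_of_forall_sympForm_left
    intro x
    rw [pow_two, mul_mv]
    have h5 := h2 x (l.1 *ᵥ v)
    rw [fm] at h5
    exact h5.symm
  have h5 : orderOf l ∣ 2 := orderOf_dvd_of_pow_eq_one h4
  rcases (Nat.dvd_prime Nat.prime_two).1 h5 with h6 | h6
  · exact h1 (orderOf_eq_one_iff.1 h6)
  · rw [h6] at hu
    exact absurd hu (by decide)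

/-! ### the map `ww` at `κ f₀` -/

/-- basis vectors of `V₁₄` -/
abbrev E (i : Fin 14) : V14 := Pi.single i 1

theorem E13 : E 13 = ww (eb (Sum.inl 0)) (eb (Sum.inl 1)) (eb (Sum.inl 2)) := by decide +kernel
theorem E1 : E 1 = ww (eb (Sum.inl 0)) (eb (Sum.inr 1)) (eb (Sum.inr 2)) := by decide +kernel
theorem E8 : E 8 = ww (eb (Sum.inl 0)) (eb (Sum.inr 1)) (eb (Sum.inl 2)) := by decide +kernel
theorem E9 : E 9 = ww (eb (Sum.inl 0)) (eb (Sum.inl 1)) (eb (Sum.inr 2)) := by decide +kernel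
theorem E10 : E 10 = ww (eb (Sum.inl 0)) (eb (Sum.inr 1)) (eb (Sum.inl 1)) := by decide +kernel
theorem E5 : E 5 = ww (eb (Sum.inl 0)) (-eb (Sum.inr 0)) (eb (Sum.inr 1)) := by decide +kernel
theorem E6 : E 6 = ww (eb (Sum.inl 0)) (eb (Sum.inr 0)) (eb (Sum.inr 2)) := by decide +kernel
theorem E11 : E 11 = ww (eb (Sum.inl 0)) (eb (Sum.inr 0)) (eb (Sum.inl 1)) := by decide +kernel
theorem E12 : E 12 = ww (eb (Sum.inl 0)) (-eb (Sum.inr 0)) (eb (Sum.inl 2)) := by decide +kernel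

section

variable (κ : F3) (a b : V6)

theorem w_1 : ww (κ • eb (Sum.inr 0)) a b 1 = 0 := by simp only [ww, cX, cY, d3, _root_.Fin.isValue, _root_.Pi.smul_apply, _root_.Pi.single_eq_same, _root_.smul_eq_mul, _root_.mul_one, _root_.ne_eq, _root_.Sum.inr.injEq, _root_.one_ne_zero, _root_.not_false_eq_true, _root_.Pi.single_eq_of_ne, _root_.MulZeroClass.mul_zero, _root_.MulZeroClass.zero_mul, _root_.sub_zero, _root_.Fin.reduceEq, _root_.add_zero, _root_.zero_add, _root_.sub_self, _root_.reduceCtorEq, _root_.Fin.reduceAdd, _root_.zero_sub, _root_.neg_add_rev, _root_.neg_neg, _root_.neg_zero, _root_.Matrix.cons_val_one, _root_.Matrix.cons_val_zero]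
theorem w_8 : ww (κ • eb (Sum.inr 0)) a b 8 = 0 := by simp only [ww, cX, cY, d3, _root_.Fin.isValue, _root_.Pi.smul_apply, _root_.Pi.single_eq_same, _root_.smul_eq_mul, _root_.mul_one, _root_.ne_eq, _root_.Sum.inr.injEq, _root_.one_ne_zero, _root_.not_false_eq_true, _root_.Pi.single_eq_of_ne, _root_.MulZeroClass.mul_zero, _root_.MulZeroClass.zero_mul, _root_.sub_zero, _root_.Fin.reduceEq, _root_.add_zero, _root_.zero_add, _root_.sub_self, _root_.reduceCtorEq, _root_.Fin.reduceAdd, _root_.zero_sub, _root_.neg_add_rev, _root_.neg_neg, _root_.neg_zero, _root_.Matrix.cons_val]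
theorem w_9 : ww (κ • eb (Sum.inr 0)) a b 9 = 0 := by simp only [ww, cX, cY, d3, _root_.Fin.isValue, _root_.Pi.smul_apply, _root_.Pi.single_eq_same, _root_.smul_eq_mul, _root_.mul_one, _root_.ne_eq, _root_.Sum.inr.injEq, _root_.one_ne_zero, _root_.not_false_eq_true, _root_.Pi.single_eq_of_ne, _root_.MulZeroClass.mul_zero, _root_.MulZeroClass.zero_mul, _root_.sub_zero, _root_.Fin.reduceEq, _root_.add_zero, _root_.zero_add, _root_.sub_self, _root_.reduceCtorEq, _root_.Fin.reduceAdd, _root_.zero_sub, _root_.neg_add_rev, _root_.neg_neg, _root_.neg_zero, _root_.Matrix.cons_val]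
theorem w_10 : ww (κ • eb (Sum.inr 0)) a b 10 = 0 := by simp only [ww, cX, cY, d3, _root_.Fin.isValue, _root_.Pi.smul_apply, _root_.Pi.single_eq_same, _root_.smul_eq_mul, _root_.mul_one, _root_.ne_eq, _root_.Sum.inr.injEq, _root_.one_ne_zero, _root_.not_false_eq_true, _root_.Pi.single_eq_of_ne, _root_.MulZeroClass.mul_zero, _root_.MulZeroClass.zero_mul, _root_.sub_zero, _root_.Fin.reduceEq, _root_.add_zero, _root_.zero_add, _root_.sub_self, _root_.reduceCtorEq, _root_.Fin.reduceAdd, _root_.zero_sub, _root_.neg_add_rev, _root_.neg_neg, _root_.neg_zero, _root_.Matrix.cons_val]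
theorem w_13 : ww (κ • eb (Sum.inr 0)) a b 13 = 0 := by simp only [ww, cX, cY, d3, _root_.Fin.isValue, _root_.Pi.smul_apply, _root_.Pi.single_eq_same, _root_.smul_eq_mul, _root_.mul_one, _root_.ne_eq, _root_.Sum.inr.injEq, _root_.one_ne_zero, _root_.not_false_eq_true, _root_.Pi.single_eq_of_ne, _root_.MulZeroClass.mul_zero, _root_.MulZeroClass.zero_mul, _root_.sub_zero, _root_.Fin.reduceEq, _root_.add_zero, _root_.zero_add, _root_.sub_self, _root_.reduceCtorEq, _root_.Fin.reduceAdd, _root_.zero_sub, _root_.neg_add_rev, _root_.neg_neg, _root_.neg_zero, _root_.Matrix.cons_val]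

theorem w_0 : ww (κ • eb (Sum.inr 0)) a b 0 =
    κ * (a (Sum.inr 1) * b (Sum.inr 2) - a (Sum.inr 2) * b (Sum.inr 1)) := by
  simp only [ww, cX, cY, d3, _root_.Fin.isValue, _root_.Pi.smul_apply, _root_.Pi.single_eq_same, _root_.smul_eq_mul, _root_.mul_one, _root_.ne_eq, _root_.Sum.inr.injEq, _root_.one_ne_zero, _root_.not_false_eq_true, _root_.Pi.single_eq_of_ne, _root_.MulZeroClass.mul_zero, _root_.MulZeroClass.zero_mul, _root_.sub_zero, _root_.Fin.reduceEq, _root_.add_zero, _root_.zero_add, _root_.sub_self, _root_.reduceCtorEq, _root_.Fin.reduceAdd, _root_.zero_sub, _root_.neg_add_rev, _root_.neg_neg, _root_.neg_zero, _root_.Matrix.cons_val_zero]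

theorem w_7 : ww (κ • eb (Sum.inr 0)) a b 7 =
    κ * (a (Sum.inl 1) * b (Sum.inl 2) - a (Sum.inl 2) * b (Sum.inl 1)) := by
  simp only [ww, cX, cY, d3, _root_.Fin.isValue, _root_.Pi.smul_apply, _root_.Pi.single_eq_same, _root_.smul_eq_mul, _root_.mul_one, _root_.ne_eq, _root_.Sum.inr.injEq, _root_.one_ne_zero, _root_.not_false_eq_true, _root_.Pi.single_eq_of_ne, _root_.MulZeroClass.mul_zero, _root_.MulZeroClass.zero_mul, _root_.sub_zero, _root_.Fin.reduceEq, _root_.add_zero, _root_.zero_add, _root_.sub_self, _root_.reduceCtorEq, _root_.Fin.reduceAdd, _root_.zero_sub, _root_.neg_add_rev, _root_.neg_neg, _root_.neg_zero, _root_.Matrix.cons_val]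

theorem w_5 : ww (κ • eb (Sum.inr 0)) a b 5 =
    -(κ * (a (Sum.inr 1) * b (Sum.inl 0) - a (Sum.inl 0) * b (Sum.inr 1))) := by
  simp only [ww, cX, cY, d3, _root_.Fin.isValue, _root_.Pi.smul_apply, _root_.Pi.single_eq_same, _root_.smul_eq_mul, _root_.mul_one, _root_.ne_eq, _root_.Sum.inr.injEq, _root_.one_ne_zero, _root_.not_false_eq_true, _root_.Pi.single_eq_of_ne, _root_.MulZeroClass.mul_zero, _root_.MulZeroClass.zero_mul, _root_.sub_zero, _root_.Fin.reduceEq, _root_.add_zero, _root_.zero_add, _root_.sub_self, _root_.reduceCtorEq, _root_.Fin.reduceAdd, _root_.zero_sub, _root_.neg_add_rev, _root_.neg_neg, _root_.neg_zero, _root_.Matrix.cons_val]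

theorem w_6 : ww (κ • eb (Sum.inr 0)) a b 6 =
    κ * (a (Sum.inr 2) * b (Sum.inl 0) - a (Sum.inl 0) * b (Sum.inr 2)) := by
  simp only [ww, cX, cY, d3, _root_.Fin.isValue, _root_.Pi.smul_apply, _root_.Pi.single_eq_same, _root_.smul_eq_mul, _root_.mul_one, _root_.ne_eq, _root_.Sum.inr.injEq, _root_.one_ne_zero, _root_.not_false_eq_true, _root_.Pi.single_eq_of_ne, _root_.MulZeroClass.mul_zero, _root_.MulZeroClass.zero_mul, _root_.sub_zero, _root_.Fin.reduceEq, _root_.add_zero, _root_.zero_add, _root_.sub_self, _root_.reduceCtorEq, _root_.Fin.reduceAdd, _root_.zero_sub, _root_.neg_add_rev, _root_.neg_neg, _root_.neg_zero, _root_.Matrix.cons_val]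

theorem w_11 : ww (κ • eb (Sum.inr 0)) a b 11 =
    -(κ * (a (Sum.inl 0) * b (Sum.inl 1) - a (Sum.inl 1) * b (Sum.inl 0))) := by
  simp only [ww, cX, cY, d3, _root_.Fin.isValue, _root_.Pi.smul_apply, _root_.Pi.single_eq_same, _root_.smul_eq_mul, _root_.mul_one, _root_.ne_eq, _root_.Sum.inr.injEq, _root_.one_ne_zero, _root_.not_false_eq_true, _root_.Pi.single_eq_of_ne, _root_.MulZeroClass.mul_zero, _root_.MulZeroClass.zero_mul, _root_.sub_zero, _root_.Fin.reduceEq, _root_.add_zero, _root_.zero_add, _root_.sub_self, _root_.reduceCtorEq, _root_.Fin.reduceAdd, _root_.zero_sub, _root_.neg_add_rev, _root_.neg_neg, _root_.neg_zero, _root_.Matrix.cons_val]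

theorem w_12 : ww (κ • eb (Sum.inr 0)) a b 12 =
    -(κ * (a (Sum.inl 2) * b (Sum.inl 0) - a (Sum.inl 0) * b (Sum.inl 2))) := by
  simp only [ww, cX, cY, d3, _root_.Fin.isValue, _root_.Pi.smul_apply, _root_.Pi.single_eq_same, _root_.smul_eq_mul, _root_.mul_one, _root_.ne_eq, _root_.Sum.inr.injEq, _root_.one_ne_zero, _root_.not_false_eq_true, _root_.Pi.single_eq_of_ne, _root_.MulZeroClass.mul_zero, _root_.MulZeroClass.zero_mul, _root_.sub_zero, _root_.Fin.reduceEq, _root_.add_zero, _root_.zero_add, _root_.sub_self, _root_.reduceCtorEq, _root_.Fin.reduceAdd, _root_.zero_sub, _root_.neg_add_rev, _root_.neg_neg, _root_.neg_zero, _root_.Matrix.cons_val]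

end

/-- a subspace without vectors supported in `S` -/
theorem finrank_le (S : Finset (Fin 14)) (W : Submodule F3 V14)
    (h : ∀ φ ∈ W, (∀ j, j ∉ S → φ j = 0) → φ = 0) : finrank F3 W + S.card ≤ 14 := by
  let π : W →ₗ[F3] ({j : Fin 14 // j ∉ S} → F3) :=
    (LinearMap.funLeft F3 F3 (Subtype.val : {j : Fin 14 // j ∉ S} → Fin 14)).comp W.subtype
  have hinj : Function.Injective π := by
    rw [← LinearMap.ker_eq_bot, LinearMap.ker_eq_bot']
    intro φ hφ
    apply Subtype.ext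
    refine h φ.1 φ.2 fun j hj => ?_
    exact congrFun hφ ⟨j, hj⟩
  have h1 := LinearMap.finrank_le_finrank_of_injective hinj
  rw [finrank_fintype_fun_eq_card, Fintype.card_subtype_compl, Fintype.card_fin] at h1
  have h2 : S.card ≤ 14 := by
    have := Finset.card_le_univ S
    rwa [Fintype.card_fin] at this
  have h3 : Fintype.card {x // x ∈ S} = S.card := Fintype.card_coe S
  rw [h3] at h1
  omega

theorem no_neg {l : Sp} (hu : Odd (orderOf l)) {v : V6} (hv : v ≠ 0) (h : l.1 *ᵥ v = -v) : False := by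
  have h1 : ∀ n : ℕ, (l ^ n).1 *ᵥ v = (-1 : F3) ^ n • v := by
    intro n
    induction n with
    | zero => rw [pow_zero, pow_zero, one_mv, one_smul]
    | succ n ih =>
      rw [pow_succ', mul_mv, ih, Matrix.mulVec_smul, h, pow_succ, smul_neg, mul_neg, mul_one, neg_smul]
  have h2 := h1 (orderOf l)
  rw [pow_orderOf_eq_one, one_mv, hu.neg_one_pow, neg_smul, one_smul] at h2
  apply hv
  funext i
  have h3 := congrFun h2 i
  have h4 : ∀ x : F3, x = -x → x = 0 := by decide
  exact h4 _ h3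

/-- the standard position: the first steps -/
theorem std_one {l : Sp} {κ : F3} (hl : l.1 *ᵥ eb (Sum.inl 0) = κ • eb (Sum.inr 0))
    {X : V14 →ₗ[F3] V14} (hX : _root_.Cfsg.Agent.H700.F43.Rel l X) :
    ∀ i ∈ ({1, 8, 9, 10, 13, 5, 6, 11, 12} : Finset (Fin 14)), ∀ j ∈ ({1, 8, 9, 10, 13} : Finset (Fin 14)),
      X (E i) j = 0 := by
  have key : ∀ (i : Fin 14) (y z : V6), E i = ww (eb (Sum.inl 0)) y z →
      ∀ j ∈ ({1, 8, 9, 10, 13} : Finset (Fin 14)), X (E i) j = 0 := by
    intro i y z h j hj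
    rw [h, hX, hl]
    simp only [Finset.mem_insert, Finset.mem_singleton] at hj
    rcases hj with rfl | rfl | rfl | rfl | rfl
    · exact w_1 _ _ _
    · exact w_8 _ _ _
    · exact w_9 _ _ _
    · exact w_10 _ _ _
    · exact w_13 _ _ _
  intro i hi
  simp only [Finset.mem_insert, Finset.mem_singleton] at hi
  rcases hi with rfl | rfl | rfl | rfl | rfl | rfl | rfl | rfl | rfl
  · exact key _ _ _ E1
  · exact key _ _ _ E8
  · exact key _ _ _ E9
  · exact key _ _ _ E10
  · exact key _ _ _ E13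
  · exact key _ _ _ E5
  · exact key _ _ _ E6
  · exact key _ _ _ E11
  · exact key _ _ _ E12

/-- a fixed vector supported in `U ∪ V₄` is supported in `V₄` -/
theorem std_two {l : Sp} {κ : F3} (hl : l.1 *ᵥ eb (Sum.inl 0) = κ • eb (Sum.inr 0))
    {X : V14 →ₗ[F3] V14} (hX : _root_.Cfsg.Agent.H700.F43.Rel l X) {φ : V14} (h1 : X φ = φ)
    (h2 : ∀ j, j ∉ ({1, 8, 9, 10, 13, 5, 6, 11, 12} : Finset (Fin 14)) → φ j = 0) :
    ∀ j ∈ ({1, 8, 9, 10, 13} : Finset (Fin 14)), φ j = 0 := by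
  intro j hj
  have h3 : φ = ∑ i, φ i • E i := by
    funext k
    simp [Finset.sum_apply, Pi.single_apply]
  have h4 : X φ j = ∑ i, φ i * X (E i) j := by
    conv_lhs => rw [h3]
    rw [map_sum, Finset.sum_apply]
    refine Finset.sum_congr rfl fun i _ => ?_
    rw [map_smul]
    rfl
  rw [← h1, h4]
  refine Finset.sum_eq_zero fun i _ => ?_
  by_cases hi : i ∈ ({1, 8, 9, 10, 13, 5, 6, 11, 12} : Finset (Fin 14))
  · rw [std_one hl hX i hi j hj, mul_zero]
  · rw [h2 i hi, zero_mul]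

theorem f_inr (i : Fin 3) (v : V6) : f v (eb (Sum.inr i)) = -v (Sum.inl i) := sympForm_single_inr_right i v

theorem f_inl (i : Fin 3) (v : V6) : f v (eb (Sum.inl i)) = v (Sum.inr i) := sympForm_single_inl_right i v

theorem f_eq (u v : V6) : f u v = (u (Sum.inr 0) * v (Sum.inl 0) - u (Sum.inl 0) * v (Sum.inr 0)) +
    (u (Sum.inr 1) * v (Sum.inl 1) - u (Sum.inl 1) * v (Sum.inr 1)) +
    (u (Sum.inr 2) * v (Sum.inl 2) - u (Sum.inl 2) * v (Sum.inr 2)) := by
  rw [sympForm_eq_sum, Fin.sum_univ_three]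

/-- the images of `e₁, e₂, f₁, f₂` have no component along `e₀` -/
theorem zero_of_perp {l : Sp} {κ : F3} (hκ : κ ≠ 0) (hl : l.1 *ᵥ eb (Sum.inl 0) = κ • eb (Sum.inr 0)) {z : V6}
    (hz : z (Sum.inr 0) = 0) : (l.1 *ᵥ z) (Sum.inl 0) = 0 := by
  have h1 := fm l z (eb (Sum.inl 0))
  rw [hl, sympForm_smul_right, f_inr, f_inl, hz, mul_neg, neg_eq_zero, mul_eq_zero] at h1
  exact h1.resolve_left hκ

theorem sq_one {κ : F3} (hκ : κ ≠ 0) : κ * κ = 1 := by
  revert κ
  decide

theorem p_inl {l : Sp} {κ : F3} (hκ : κ ≠ 0) (hl : l.1 *ᵥ eb (Sum.inl 0) = κ • eb (Sum.inr 0)) :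
    (l.1 *ᵥ eb (Sum.inr 0)) (Sum.inl 0) = -κ := by
  have h1 := fm l (eb (Sum.inr 0)) (eb (Sum.inl 0))
  rw [hl, sympForm_smul_right, f_inr, f_inl] at h1
  have h2 : (eb (Sum.inr 0) : V6) (Sum.inr 0) = 1 := by decide
  rw [h2] at h1
  linear_combination (-κ) * h1 - ((l.1 *ᵥ eb (Sum.inr 0)) (Sum.inl 0)) * sq_one hκ

/-- the coordinates of `q` -/
theorem extr {κ : F3} {P q : V6} {i : Fin 14} {δ : F3} (h : ww (κ • eb (Sum.inr 0)) P q = E i)
    (hz : q (Sum.inl 0) = 0) (hP : κ * P (Sum.inl 0) = δ) :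
    E i 5 = δ * q (Sum.inr 1) ∧ E i 6 = -(δ * q (Sum.inr 2)) ∧ E i 11 = -(δ * q (Sum.inl 1)) ∧
      E i 12 = δ * q (Sum.inl 2) ∧
      E i 0 = κ * (P (Sum.inr 1) * q (Sum.inr 2) - P (Sum.inr 2) * q (Sum.inr 1)) ∧
      E i 7 = κ * (P (Sum.inl 1) * q (Sum.inl 2) - P (Sum.inl 2) * q (Sum.inl 1)) := by
  rw [← h, w_5, w_6, w_11, w_12, w_0, w_7, hz, ← hP]
  refine ⟨by ring, by ring, by ring, by ring, rfl, rfl⟩

theorem vec_ext {u v : V6} (h0 : u (Sum.inl 0) = v (Sum.inl 0)) (h1 : u (Sum.inl 1) = v (Sum.inl 1))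
    (h2 : u (Sum.inl 2) = v (Sum.inl 2)) (k0 : u (Sum.inr 0) = v (Sum.inr 0)) (k1 : u (Sum.inr 1) = v (Sum.inr 1))
    (k2 : u (Sum.inr 2) = v (Sum.inr 2)) : u = v := by
  funext i
  rcases i with i | i <;> fin_cases i
  · exact h0
  · exact h1
  · exact h2
  · exact k0
  · exact k1
  · exact k2

/-- the standard position: all the vectors of `V₄` are fixed -/
theorem std_three {l : Sp} {κ : F3} (hκ : κ ≠ 0) (hl : l.1 *ᵥ eb (Sum.inl 0) = κ • eb (Sum.inr 0))
    {X : V14 →ₗ[F3] V14} (hX : _root_.Cfsg.Agent.H700.F43.Rel l X) (h : ∀ i ∈ ({5, 6, 11, 12} : Finset (Fin 14)), X (E i) = E i) :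
    (∀ j, j ≠ 0 → l.1 *ᵥ eb (Sum.inl j) = eb (Sum.inl j)) ∧ (∀ j, j ≠ 0 → l.1 *ᵥ eb (Sum.inr j) = eb (Sum.inr j)) ∧
      ∃ b : F3, l.1 *ᵥ eb (Sum.inr 0) = -κ • eb (Sum.inl 0) + b • eb (Sum.inr 0) := by
  have hp := p_inl hκ hl
  have hk := sq_one hκ
  set p := l.1 *ᵥ eb (Sum.inr 0) with hpd
  have e5 : ww (κ • eb (Sum.inr 0)) (-p) (l.1 *ᵥ eb (Sum.inr 1)) = E 5 := by
    have h1 := h 5 (by decide)
    rw [E5, hX, hl, Matrix.mulVec_neg, ← hpd, ← E5] at h1
    exact h1
  have e6 : ww (κ • eb (Sum.inr 0)) p (l.1 *ᵥ eb (Sum.inr 2)) = E 6 := by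
    have h1 := h 6 (by decide)
    rw [E6, hX, hl, ← hpd, ← E6] at h1
    exact h1
  have e11 : ww (κ • eb (Sum.inr 0)) p (l.1 *ᵥ eb (Sum.inl 1)) = E 11 := by
    have h1 := h 11 (by decide)
    rw [E11, hX, hl, ← hpd, ← E11] at h1
    exact h1
  have e12 : ww (κ • eb (Sum.inr 0)) (-p) (l.1 *ᵥ eb (Sum.inl 2)) = E 12 := by
    have h1 := h 12 (by decide)
    rw [E12, hX, hl, Matrix.mulVec_neg, ← hpd, ← E12] at h1
    exact h1
  have z5 : (l.1 *ᵥ eb (Sum.inr 1)) (Sum.inl 0) = 0 := zero_of_perp hκ hl (by decide)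
  have z6 : (l.1 *ᵥ eb (Sum.inr 2)) (Sum.inl 0) = 0 := zero_of_perp hκ hl (by decide)
  have z11 : (l.1 *ᵥ eb (Sum.inl 1)) (Sum.inl 0) = 0 := zero_of_perp hκ hl (by decide)
  have z12 : (l.1 *ᵥ eb (Sum.inl 2)) (Sum.inl 0) = 0 := zero_of_perp hκ hl (by decide)
  have o5 : f (l.1 *ᵥ eb (Sum.inr 1)) p = 0 := by rw [hpd, fm]; decide
  have o6 : f (l.1 *ᵥ eb (Sum.inr 2)) p = 0 := by rw [hpd, fm]; decide
  have o11 : f (l.1 *ᵥ eb (Sum.inl 1)) p = 0 := by rw [hpd, fm]; decide
  have o12 : f (l.1 *ᵥ eb (Sum.inl 2)) p = 0 := by rw [hpd, fm]; decide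
  generalize hq5 : l.1 *ᵥ eb (Sum.inr 1) = q5 at *
  generalize hq6 : l.1 *ᵥ eb (Sum.inr 2) = q6 at *
  generalize hq11 : l.1 *ᵥ eb (Sum.inl 1) = q11 at *
  generalize hq12 : l.1 *ᵥ eb (Sum.inl 2) = q12 at *
  obtain ⟨a1, a2, a3, a4, a5, a6⟩ := extr (δ := 1) e5 z5 (by rw [Pi.neg_apply, hp, neg_neg, hk])
  obtain ⟨b1, b2, b3, b4, b5, b6⟩ := extr (δ := -1) e6 z6 (by rw [hp, mul_neg, hk])
  obtain ⟨c1, c2, c3, c4, c5, c6⟩ := extr (δ := -1) e11 z11 (by rw [hp, mul_neg, hk])
  obtain ⟨d1, d2, d3, d4, d5, d6⟩ := extr (δ := 1) e12 z12 (by rw [Pi.neg_apply, hp, neg_neg, hk])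
  clear e5 e6 e11 e12
  rw [show E 5 5 = 1 by decide, one_mul] at a1
  rw [show E 5 6 = 0 by decide, one_mul, zero_eq_neg] at a2
  rw [show E 5 11 = 0 by decide, one_mul, zero_eq_neg] at a3
  rw [show E 5 12 = 0 by decide, one_mul] at a4
  rw [show E 5 0 = 0 by decide, Pi.neg_apply, Pi.neg_apply, a2, ← a1, mul_zero, mul_one, zero_sub, neg_neg] at a5
  rw [show E 6 5 = 0 by decide, neg_one_mul, zero_eq_neg] at b1
  rw [show E 6 6 = 1 by decide, neg_one_mul, neg_neg] at b2
  rw [show E 6 11 = 0 by decide, neg_one_mul, neg_neg] at b3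
  rw [show E 6 12 = 0 by decide, neg_one_mul, zero_eq_neg] at b4
  rw [show E 6 0 = 0 by decide, b1, ← b2, mul_zero, mul_one, sub_zero] at b5
  rw [show E 11 5 = 0 by decide, neg_one_mul, zero_eq_neg] at c1
  rw [show E 11 6 = 0 by decide, neg_one_mul, neg_neg] at c2
  rw [show E 11 11 = 1 by decide, neg_one_mul, neg_neg] at c3
  rw [show E 11 12 = 0 by decide, neg_one_mul, zero_eq_neg] at c4
  rw [show E 11 7 = 0 by decide, c4, ← c3, mul_zero, mul_one, zero_sub, mul_neg, zero_eq_neg] at c6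
  rw [show E 12 5 = 0 by decide, one_mul] at d1
  rw [show E 12 6 = 0 by decide, one_mul, zero_eq_neg] at d2
  rw [show E 12 11 = 0 by decide, one_mul, zero_eq_neg] at d3
  rw [show E 12 12 = 1 by decide, one_mul] at d4
  rw [show E 12 7 = 0 by decide, Pi.neg_apply, Pi.neg_apply, d3, ← d4, mul_zero, mul_one, sub_zero, mul_neg,
    zero_eq_neg] at d6
  have r2 : p (Sum.inr 2) = 0 := (mul_eq_zero.1 a5.symm).resolve_left hκ
  have r1 : p (Sum.inr 1) = 0 := (mul_eq_zero.1 b5.symm).resolve_left hκ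
  have l2 : p (Sum.inl 2) = 0 := (mul_eq_zero.1 c6).resolve_left hκ
  have l1 : p (Sum.inl 1) = 0 := (mul_eq_zero.1 d6).resolve_left hκ
  have key : ∀ q : V6, f q p = 0 → q (Sum.inl 0) = 0 → q (Sum.inr 0) = 0 := by
    intro q h1 h2
    rw [f_eq, r1, r2, l1, l2, h2, hp] at h1
    have h3 : q (Sum.inr 0) * κ = 0 := by linear_combination -h1
    exact (mul_eq_zero.1 h3).resolve_right hκ
  have k5 := key q5 o5 z5
  have k6 := key q6 o6 z6
  have k11 := key q11 o11 z11
  have k12 := key q12 o12 z12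
  refine ⟨fun j hj => ?_, fun j hj => ?_, p (Sum.inr 0), ?_⟩
  · have hj' : j = 1 ∨ j = 2 := by
      revert j
      decide
    rcases hj' with rfl | rfl
    · rw [hq11]
      refine vec_ext ?_ ?_ ?_ ?_ ?_ ?_
      · rw [z11]; decide
      · rw [← c3]; decide
      · rw [c4]; decide
      · rw [k11]; decide
      · rw [c1]; decide
      · rw [← c2]; decide
    · rw [hq12]
      refine vec_ext ?_ ?_ ?_ ?_ ?_ ?_
      · rw [z12]; decide
      · rw [d3]; decide
      · rw [← d4]; decide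
      · rw [k12]; decide
      · rw [← d1]; decide
      · rw [d2]; decide
  · have hj' : j = 1 ∨ j = 2 := by
      revert j
      decide
    rcases hj' with rfl | rfl
    · rw [hq5]
      refine vec_ext ?_ ?_ ?_ ?_ ?_ ?_
      · rw [z5]; decide
      · rw [a3]; decide
      · rw [← a4]; decide
      · rw [k5]; decide
      · rw [← a1]; decide
      · rw [a2]; decide
    · rw [hq6]
      refine vec_ext ?_ ?_ ?_ ?_ ?_ ?_
      · rw [z6]; decide
      · rw [← b3]; decide
      · rw [b4]; decide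
      · rw [k6]; decide
      · rw [b1]; decide
      · rw [← b2]; decide
  · refine vec_ext ?_ ?_ ?_ ?_ ?_ ?_
    · rw [hp]; simp
    · rw [l1]; simp
    · rw [l2]; simp
    · simp
    · rw [r1]; simp
    · rw [r2]; simp

/-- the standard position -/
theorem std {l : Sp} (hu : Odd (orderOf l)) {κ : F3} (hκ : κ ≠ 0)
    (hl : l.1 *ᵥ eb (Sum.inl 0) = κ • eb (Sum.inr 0)) {X : V14 →ₗ[F3] V14} (hX : _root_.Cfsg.Agent.H700.F43.Rel l X) :
    finrank F3 (LinearMap.ker (X - 1)) ≤ 9 ∧ (finrank F3 (LinearMap.ker (X - 1)) ≤ 8 ∨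
      l = transv (eb (Sum.inl 0) - κ • eb (Sum.inr 0)) (-κ)) := by
  have hmem : ∀ φ, φ ∈ LinearMap.ker (X - 1) ↔ X φ = φ := fun φ => by
    rw [LinearMap.mem_ker, LinearMap.sub_apply, sub_eq_zero]
    rfl
  have h9 := finrank_le {1, 8, 9, 10, 13} (LinearMap.ker (X - 1)) (by
    intro φ hφ hs
    have h1 := std_two hl hX ((hmem φ).1 hφ) (fun j hj => hs j (fun h => hj (by
      simp only [Finset.mem_insert, Finset.mem_singleton] at h ⊢
      (clear * - h; tauto))))
    funext j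
    by_cases hj : j ∈ ({1, 8, 9, 10, 13} : Finset (Fin 14))
    · exact h1 j hj
    · exact hs j hj)
  have c9 : ({1, 8, 9, 10, 13} : Finset (Fin 14)).card = 5 := by decide
  rw [c9] at h9
  refine ⟨by omega, ?_⟩
  by_cases hall : ∀ i ∈ ({5, 6, 11, 12} : Finset (Fin 14)), X (E i) = E i
  · right
    obtain ⟨h1, h2, b, h3⟩ := std_three hκ hl hX hall
    have hk := sq_one hκ
    have hpow : ∀ m : ℕ, Odd (orderOf (l ^ m)) := fun m => Odd.of_dvd_nat hu (orderOf_pow_dvd m)
    have s2 : (l ^ 2).1 *ᵥ eb (Sum.inl 0) = -eb (Sum.inl 0) + (κ * b) • eb (Sum.inr 0) := by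
      rw [pow_two, mul_mv, hl, Matrix.mulVec_smul, h3, smul_add, smul_smul, smul_smul, mul_neg, hk, neg_smul, one_smul]
    have hb : b = 2 := by
      have hb' : b = 0 ∨ b = 1 ∨ b = 2 := by
        clear h3 s2
        revert b
        decide
      rcases hb' with rfl | rfl | rfl
      · exfalso
        refine no_neg (hpow 2) (v := eb (Sum.inl 0)) (by decide) ?_
        rw [s2, mul_zero, zero_smul, add_zero]
      · exfalso
        refine no_neg (hpow 3) (v := eb (Sum.inl 0)) (by decide) ?_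
        rw [pow_succ', mul_mv, s2, Matrix.mulVec_add, Matrix.mulVec_neg, hl, Matrix.mulVec_smul, h3, mul_one, smul_add,
          smul_smul, one_smul, mul_neg, hk, neg_smul, one_smul]
        abel
      · rfl
    subst hb
    apply Subtype.ext
    apply Matrix.ext_of_mulVec_single
    intro a
    change l.1 *ᵥ eb a = (transv (eb (Sum.inl 0) - κ • eb (Sum.inr 0)) (-κ)).1 *ᵥ eb a
    rw [coe_transv, sympTransvection_mulVec, sympForm_sub_right, sympForm_smul_right, f_inl, f_inr]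
    rcases a with j | j
    · by_cases hj : j = 0
      · subst hj
        rw [hl]
        have e1 : (eb (Sum.inl 0) : V6) (Sum.inr 0) = 0 := by decide
        have e2 : (eb (Sum.inl 0) : V6) (Sum.inl 0) = 1 := by decide
        rw [e1, e2, zero_sub, mul_neg_one, neg_neg, neg_mul, hk, neg_smul, one_smul]
        abel
      · rw [h1 j hj]
        have e1 : (eb (Sum.inl j) : V6) (Sum.inr 0) = 0 := by simp
        have e2 : (eb (Sum.inl j) : V6) (Sum.inl 0) = 0 := by simp [Ne.symm hj]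
        rw [e1, e2, neg_zero, mul_zero, sub_zero, mul_zero, zero_smul, add_zero]
    · by_cases hj : j = 0
      · subst hj
        rw [h3]
        have e1 : (eb (Sum.inr 0) : V6) (Sum.inr 0) = 1 := by decide
        have e2 : (eb (Sum.inr 0) : V6) (Sum.inl 0) = 0 := by decide
        rw [e1, e2, neg_zero, mul_zero, sub_zero, mul_one, smul_sub, smul_smul, neg_mul, hk, two_smul, neg_smul,
          neg_smul, one_smul]
        abel
      · rw [h2 j hj]
        have e1 : (eb (Sum.inr j) : V6) (Sum.inr 0) = 0 := by simp [Ne.symm hj]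
        have e2 : (eb (Sum.inr j) : V6) (Sum.inl 0) = 0 := by simp
        rw [e1, e2, neg_zero, mul_zero, sub_zero, mul_zero, zero_smul, add_zero]
  · left
    push Not at hall
    obtain ⟨i, hi, hne⟩ := hall
    have h8 := finrank_le (insert i {1, 8, 9, 10, 13}) (LinearMap.ker (X - 1)) (by
      intro φ hφ hs
      have h0 := (hmem φ).1 hφ
      have h1 := std_two hl hX h0 (fun j hj => hs j (fun h => hj (by
        simp only [Finset.mem_insert, Finset.mem_singleton] at h hi ⊢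
        rcases h with rfl | h
        · (clear * - hi; tauto)
        · (clear * - h; tauto))))
      have h2 : φ = φ i • E i := by
        funext j
        by_cases hj : j = i
        · subst hj
          simp
        · have h3 : φ j = 0 := by
            by_cases hj' : j ∈ ({1, 8, 9, 10, 13} : Finset (Fin 14))
            · exact h1 j hj'
            · exact hs j (fun h => (Finset.mem_insert.1 h).elim hj hj')
          rw [h3]
          simp [hj]
      by_contra h4
      apply hne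
      have h5 : φ i ≠ 0 := fun h6 => h4 (by rw [h2, h6, zero_smul])
      rw [h2, map_smul] at h0
      exact smul_right_injective _ h5 (by simpa only [] using h0))
    have c10 : (insert i ({1, 8, 9, 10, 13} : Finset (Fin 14))).card = 6 := by
      clear hne h9 h8
      revert i
      decide
    rw [c10] at h8
    omega

/-- the form of two vectors can be moved to the standard position -/
theorem exists_std {w w' : V6} (h : f w w' ≠ 0) : ∃ (g : Sp) (κ : F3), κ ≠ 0 ∧ g.1 *ᵥ eb (Sum.inl 0) = w ∧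
    g.1 *ᵥ (κ • eb (Sum.inr 0)) = w' := by
  have hk := sq_one h
  obtain ⟨A, -, h1, h2⟩ := exists_transvGroup_hyperbolic (m := 3) (F := F3) (u := eb (Sum.inl 0))
    (v := -eb (Sum.inr 0)) (u' := w) (v' := f w w' • w') (by decide) (by
      have h3 := sympForm_smul_right (m := 3) (F := F3) (f w w') w w'
      exact h3.trans hk)
  refine ⟨A, -f w w', neg_ne_zero.2 h, h1, ?_⟩
  have h4 : A.1 *ᵥ (-f w w' • eb (Sum.inr 0)) = f w w' • (A.1 *ᵥ (-eb (Sum.inr 0))) := by
    rw [← Matrix.mulVec_smul, smul_neg, neg_smul]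
  rw [h4]
  have h5 : f w w' • (f w w' • w') = w' := by rw [smul_smul, hk, one_smul]
  exact (congrArg (fun x => f w w' • x) h2).trans h5

/-- the vectors `ww x y z` span -/
theorem exists_ww (i : Fin 14) : ∃ x y z : V6, E i = ww x y z := by
  have h0 : E 0 = ww (eb (Sum.inr 0)) (eb (Sum.inr 1)) (eb (Sum.inr 2)) := by decide +kernel
  have h2 : E 2 = ww (eb (Sum.inr 2)) (eb (Sum.inr 0)) (eb (Sum.inl 1)) := by decide +kernel
  have h3 : E 3 = ww (eb (Sum.inr 0)) (eb (Sum.inr 1)) (eb (Sum.inl 2)) := by decide +kernel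
  have h4 : E 4 = ww (eb (Sum.inr 1)) (eb (Sum.inr 0)) (eb (Sum.inl 1)) := by decide +kernel
  have h7 : E 7 = ww (eb (Sum.inl 1)) (eb (Sum.inl 2)) (eb (Sum.inr 0)) := by decide +kernel
  fin_cases i
  · exact ⟨_, _, _, h0⟩
  · exact ⟨_, _, _, E1⟩
  · exact ⟨_, _, _, h2⟩
  · exact ⟨_, _, _, h3⟩
  · exact ⟨_, _, _, h4⟩
  · exact ⟨_, _, _, E5⟩
  · exact ⟨_, _, _, E6⟩
  · exact ⟨_, _, _, h7⟩
  · exact ⟨_, _, _, E8⟩
  · exact ⟨_, _, _, E9⟩
  · exact ⟨_, _, _, E10⟩
  · exact ⟨_, _, _, E11⟩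
  · exact ⟨_, _, _, E12⟩
  · exact ⟨_, _, _, E13⟩

/-- `X` is determined by `A` -/
theorem rel_unique {A : Sp} {X Y : V14 →ₗ[F3] V14} (hX : _root_.Cfsg.Agent.H700.F43.Rel A X) (hY : _root_.Cfsg.Agent.H700.F43.Rel A Y) : X = Y := by
  refine LinearMap.pi_ext' fun i => LinearMap.ext_ring ?_
  obtain ⟨x, y, z, h⟩ := exists_ww i
  change X (E i) = Y (E i)
  rw [h, hX, hY]

theorem sp_transitive {v w : V6} (hv : v ≠ 0) (hw : w ≠ 0) : ∃ A : Sp, A.1 *ᵥ v = w := by
  obtain ⟨A, -, h⟩ := exists_transvGroup_mulVec_eq (m := 3) (F := F3) hv hw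
  exact ⟨A, h⟩

theorem conj_transv (A : Sp) (v : V6) (c : F3) : A * transv v c * A⁻¹ = transv (A.1 *ᵥ v) c := by
  rw [mul_inv_eq_iff_eq_mul]
  exact Subtype.ext (mul_sympTransvection A.2 v c)

/-- the fixed points of a conjugate -/
theorem finrank_conj {g g' l : Sp} (hg : g' * g = 1) {X Y Z : V14 →ₗ[F3] V14} (hX : _root_.Cfsg.Agent.H700.F43.Rel l X) (hY : _root_.Cfsg.Agent.H700.F43.Rel g Y)
    (hZ : _root_.Cfsg.Agent.H700.F43.Rel g' Z) :
    finrank F3 (LinearMap.ker (Z * X * Y - 1)) = finrank F3 (LinearMap.ker (X - 1)) := by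
  have h1 : Z * Y = 1 := rel_unique (hg ▸ hZ.mul hY) Rel.one
  have h2 : Y * Z = 1 := rel_unique ((mul_eq_one_comm.1 hg) ▸ hY.mul hZ) Rel.one
  let e : V14 ≃ₗ[F3] V14 := LinearEquiv.ofLinearMap Y Z h2 h1
  have h3 : LinearMap.ker (X - 1) = (LinearMap.ker (Z * X * Y - 1)).map (e : V14 →ₗ[F3] V14) := by
    ext φ
    rw [Submodule.mem_map, LinearMap.mem_ker, LinearMap.sub_apply, sub_eq_zero]
    constructor
    · intro h
      refine ⟨Z φ, ?_, LinearMap.congr_fun h2 φ⟩
      rw [LinearMap.mem_ker, LinearMap.sub_apply, sub_eq_zero]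
      have h4 : Y (Z φ) = φ := LinearMap.congr_fun h2 φ
      change Z (X (Y (Z φ))) = Z φ
      rw [h4, h]
      rfl
    · rintro ⟨ψ, h4, rfl⟩
      rw [LinearMap.mem_ker, LinearMap.sub_apply, sub_eq_zero] at h4
      have h5 : Y (Z (X (Y ψ))) = X (Y ψ) := LinearMap.congr_fun h2 _
      have h6 : Z (X (Y ψ)) = ψ := h4
      change X (Y ψ) = Y ψ
      rw [← h5, h6]
  rw [h3]
  exact (LinearEquiv.finrank_map_eq e _).symm

/-- **Fixed points of unipotent elements on `V₁₄`.** -/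
theorem fix_le (hR : ∀ A : Sp, ∃ X : V14 →ₗ[F3] V14, _root_.Cfsg.Agent.H700.F43.Rel A X) {l : Sp} (h1 : l ≠ 1) (hu : Odd (orderOf l))
    {X : V14 →ₗ[F3] V14} (hX : _root_.Cfsg.Agent.H700.F43.Rel l X) :
    finrank F3 (LinearMap.ker (X - 1)) ≤ 9 ∧ (finrank F3 (LinearMap.ker (X - 1)) ≤ 8 ∨
      ∃ (h : Sp) (c : F3), c ≠ 0 ∧ h * l * h⁻¹ = transv (eb (Sum.inl 0)) c) := by
  obtain ⟨w, hw⟩ := exists_wall h1 hu
  obtain ⟨g, κ, hκ, hg1, hg2⟩ := exists_std hw
  obtain ⟨Y, hY⟩ := hR g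
  obtain ⟨Z, hZ⟩ := hR g⁻¹
  have hl : (g⁻¹ * l * g).1 *ᵥ eb (Sum.inl 0) = κ • eb (Sum.inr 0) := by
    rw [mul_mv, mul_mv, hg1, ← hg2, inv_mv]
  have hodd : Odd (orderOf (g⁻¹ * l * g)) := by
    have h2 : g⁻¹ * l * g = (MulAut.conj g⁻¹).toMonoidHom l := by
      change _ = g⁻¹ * l * g⁻¹⁻¹
      rw [inv_inv]
    rw [h2]
    exact Odd.of_dvd_nat hu (orderOf_map_dvd _ _)
  have h3 := std hodd hκ hl ((hZ.mul hX).mul hY)
  rw [finrank_conj (inv_mul_cancel g) hX hY hZ] at h3
  refine ⟨h3.1, h3.2.imp id fun h4 => ?_⟩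
  have h5 : eb (Sum.inl 0) - κ • eb (Sum.inr 0) ≠ (0 : V6) := by
    intro h6
    have h7 := congrFun h6 (Sum.inl 0)
    simp only [_root_.Fin.isValue, _root_.Pi.sub_apply, _root_.Pi.single_eq_same, _root_.Pi.smul_apply, _root_.ne_eq, _root_.reduceCtorEq, _root_.not_false_eq_true, _root_.Pi.single_eq_of_ne, _root_.smul_eq_mul, _root_.MulZeroClass.mul_zero, _root_.sub_zero, _root_.Pi.zero_apply, _root_.one_ne_zero] at h7
  obtain ⟨B, hB⟩ := sp_transitive h5 (w := eb (Sum.inl 0)) (by decide)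
  refine ⟨B * g⁻¹, -κ, neg_ne_zero.2 hκ, ?_⟩
  have h6 : B * g⁻¹ * l * (B * g⁻¹)⁻¹ = B * (g⁻¹ * l * g) * B⁻¹ := by group
  rw [h6, h4, conj_transv, hB]

end Cfsg.Agent.H750.F43
end

-- part: H934/FF/HZero
section
/-!
# Coordinates of a special group (helper934)

`H0`: elements `x i t`, `z a` with `[x i s, x j t] = z (b i j s t)`, `z a` central. `X v` (`v : ι → F`) is the product of
the `x i (v i)`; `comm : X v * X w = X w * X v * z (om v w)`; `mem_cl`: the group generated is the set of the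
`X v * z a`. `engine`: an element `x₀` centralising all `z a`, which moves `x k t` to `x i (e t)` for `i ∈ A` and commutes
with the partners of the `x i t`, `i ∉ A`: for every `g = X v * z a` some `y` has `y (x₀ g) y⁻¹ = x₀ g z d`, `d ≠ 0`, or
`x₀ g` is conjugate to some `x₀ z d`.
-/

set_option autoImplicit false

namespace Cfsg.Agent.H934.FF

/-- Root elements of a special group. -/
structure H0 (Γ F ι : Type*) [Group Γ] [Field F] where
  x : ι → F → Γ
  z : F → Γ
  x_add : ∀ i s t, x i (s + t) = x i s * x i t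
  z_add : ∀ s t, z (s + t) = z s * z t
  x_z : ∀ i t a, x i t * z a = z a * x i t
  b : ι → ι → F
  x_comm : ∀ i j s t, x i s * x j t = x j t * x i s * z (b i j * s * t)

namespace H0

variable {Γ F ι : Type*} [Group Γ] [Field F] [Fintype ι] [DecidableEq ι] (R : H0 Γ F ι)

omit [Fintype ι] [DecidableEq ι] in
theorem x_zero (i : ι) : R.x i 0 = 1 := by
  have h := R.x_add i 0 0
  rw [add_zero] at h
  exact mul_right_cancel (b := R.x i 0) (by rw [← h, one_mul])

omit [Fintype ι] [DecidableEq ι] in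
theorem z_zero : R.z 0 = 1 := by
  have h := R.z_add 0 0
  rw [add_zero] at h
  exact mul_right_cancel (b := R.z 0) (by rw [← h, one_mul])

omit [Fintype ι] [DecidableEq ι] in
theorem z_neg (a : F) : R.z (-a) = (R.z a)⁻¹ := by
  rw [eq_inv_iff_mul_eq_one, ← R.z_add, neg_add_cancel, R.z_zero]

omit [Fintype ι] [DecidableEq ι] in
theorem z_z (a b : F) : R.z a * R.z b = R.z b * R.z a := by rw [← R.z_add, ← R.z_add, add_comm]

/-- Product over a list. -/
def P (l : List ι) (v : ι → F) : Γ := (l.map fun i => R.x i (v i)).prod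

omit [Fintype ι] [DecidableEq ι] in
theorem P_nil (v : ι → F) : R.P [] v = 1 := rfl

omit [Fintype ι] [DecidableEq ι] in
theorem P_cons (i : ι) (l : List ι) (v : ι → F) : R.P (i :: l) v = R.x i (v i) * R.P l v := by
  simp [P]

omit [Fintype ι] [DecidableEq ι] in
theorem P_z (l : List ι) (v : ι → F) (a : F) : R.P l v * R.z a = R.z a * R.P l v := by
  induction l with
  | nil => simp [P_nil]
  | cons i l ih => rw [P_cons, mul_assoc, ih, ← mul_assoc, R.x_z, mul_assoc]

omit [Fintype ι] [DecidableEq ι] in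
theorem x_P_comm' (i : ι) (t : F) (l : List ι) (v : ι → F) :
    R.x i t * R.P l v = R.P l v * R.x i t * R.z ((l.map fun j => R.b i j * t * v j).sum) := by
  induction l with
  | nil => rw [P_nil, List.map_nil, List.sum_nil, R.z_zero, mul_one, one_mul, mul_one]
  | cons j l ih =>
    rw [P_cons, ← mul_assoc, R.x_comm i j t (v j), mul_assoc (R.x j (v j) * R.x i t), ← R.P_z, ← mul_assoc,
      mul_assoc (R.x j (v j)), ih, List.map_cons, List.sum_cons, add_comm, R.z_add]
    simp only [mul_assoc]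

omit [Fintype ι] [DecidableEq ι] in
theorem P_add (l : List ι) (v w : ι → F) : ∃ a, R.P l (v + w) = R.P l v * R.P l w * R.z a := by
  induction l with
  | nil => exact ⟨0, by rw [P_nil, P_nil, P_nil, R.z_zero, one_mul, one_mul]⟩
  | cons i l ih =>
    obtain ⟨a, ha⟩ := ih
    obtain ⟨b, hb⟩ : ∃ b, R.x i (w i) * R.P l v = R.P l v * R.x i (w i) * R.z b := ⟨_, R.x_P_comm' i (w i) l v⟩
    refine ⟨b + a, ?_⟩
    have h1 : R.x i (w i) * R.P l v * (R.P l w * R.z a) = R.P l v * (R.x i (w i) * R.P l w) * R.z (b + a) := by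
      rw [hb, R.z_add, mul_assoc (R.P l v * R.x i (w i)), ← mul_assoc (R.z b), ← R.P_z l w b]
      simp only [mul_assoc]
    rw [P_cons, P_cons, P_cons, Pi.add_apply, R.x_add, ha]
    calc R.x i (v i) * R.x i (w i) * (R.P l v * R.P l w * R.z a)
        = R.x i (v i) * (R.x i (w i) * R.P l v * (R.P l w * R.z a)) := by simp only [mul_assoc]
      _ = _ := by rw [h1]; simp only [mul_assoc]

omit [Fintype ι] in
theorem P_single_not_mem {i : ι} {l : List ι} (h : i ∉ l) (t : F) : R.P l (Pi.single i t) = 1 := by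
  induction l with
  | nil => rfl
  | cons j l ih =>
    rw [List.mem_cons, not_or] at h
    rw [P_cons, Pi.single_eq_of_ne (Ne.symm h.1), R.x_zero, one_mul, ih h.2]

omit [Fintype ι] in
theorem P_single {i : ι} {l : List ι} (hl : l.Nodup) (h : i ∈ l) (t : F) : R.P l (Pi.single i t) = R.x i t := by
  induction l with
  | nil => simp at h
  | cons j l ih =>
    rw [List.nodup_cons] at hl
    rw [P_cons]
    rcases eq_or_ne i j with rfl | hij
    · rw [Pi.single_eq_same, R.P_single_not_mem hl.1, mul_one]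
    · rw [Pi.single_eq_of_ne (Ne.symm hij), R.x_zero, one_mul]
      exact ih hl.2 (List.mem_of_ne_of_mem hij h)

/-- The element of the special group with given coordinates. -/
noncomputable def X (v : ι → F) : Γ := R.P (Finset.univ : Finset ι).toList v

omit [DecidableEq ι] in
theorem X_add (v w : ι → F) : ∃ a, R.X (v + w) = R.X v * R.X w * R.z a := R.P_add _ v w

omit [DecidableEq ι] in
theorem X_z (v : ι → F) (a : F) : R.X v * R.z a = R.z a * R.X v := R.P_z _ v a

theorem X_single (i : ι) (t : F) : R.X (Pi.single i t) = R.x i t :=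
  R.P_single (Finset.nodup_toList _) (Finset.mem_toList.2 (Finset.mem_univ i)) t

omit [DecidableEq ι] in
theorem X_zero : R.X 0 = 1 := by
  unfold X
  generalize (Finset.univ : Finset ι).toList = l
  induction l with
  | nil => rfl
  | cons i l ih => rw [P_cons, ih, Pi.zero_apply, R.x_zero, one_mul]

omit [DecidableEq ι] in
theorem x_X (i : ι) (t : F) (v : ι → F) :
    R.x i t * R.X v = R.X v * R.x i t * R.z (∑ j, R.b i j * t * v j) := by
  have h := R.x_P_comm' i t (Finset.univ : Finset ι).toList v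
  rw [Finset.sum_map_toList] at h
  exact h

/-- The group of all `X v * z a`. -/
def Qg : Subgroup Γ where
  carrier := {g | ∃ v a, g = R.X v * R.z a}
  one_mem' := ⟨0, 0, by rw [R.X_zero, R.z_zero, mul_one]⟩
  mul_mem' := by
    rintro _ _ ⟨v, a, rfl⟩ ⟨w, b, rfl⟩
    obtain ⟨c, hc⟩ := R.X_add v w
    refine ⟨v + w, a + b - c, ?_⟩
    rw [hc, sub_eq_add_neg, R.z_add, R.z_add, R.z_neg]
    have h1 : R.z c * (R.z a * R.z b * (R.z c)⁻¹) = R.z a * R.z b := by
      rw [← mul_assoc, mul_inv_eq_iff_eq_mul, ← R.z_add a b, R.z_z]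
    calc R.X v * R.z a * (R.X w * R.z b) = R.X v * (R.z a * R.X w) * R.z b := by simp only [mul_assoc]
      _ = R.X v * R.X w * (R.z a * R.z b) := by rw [← R.X_z]; simp only [mul_assoc]
      _ = R.X v * R.X w * (R.z c * (R.z a * R.z b * (R.z c)⁻¹)) := by rw [h1]
      _ = _ := by simp only [mul_assoc]
  inv_mem' := by
    rintro _ ⟨v, a, rfl⟩
    obtain ⟨c, hc⟩ := R.X_add v (-v)
    rw [add_neg_cancel, R.X_zero] at hc
    refine ⟨-v, c - a, ?_⟩
    rw [mul_inv_rev, sub_eq_add_neg, add_comm, R.z_add, R.z_neg]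
    have h2 : (R.X v)⁻¹ = R.X (-v) * R.z c := by
      rw [inv_eq_iff_mul_eq_one, ← mul_assoc, ← hc]
    rw [h2, ← mul_assoc, ← mul_assoc]
    congr 1
    rw [← R.z_neg, R.X_z]

omit [DecidableEq ι] in
theorem z_mem (a : F) : R.z a ∈ R.Qg := ⟨0, a, by rw [R.X_zero, one_mul]⟩

theorem x_mem (i : ι) (t : F) : R.x i t ∈ R.Qg := ⟨Pi.single i t, 0, by rw [R.X_single, R.z_zero, mul_one]⟩

/-- **The engine.** -/
theorem engine {x0 : Γ} (A : ι → Prop) (hz : ∀ a, x0 * R.z a = R.z a * x0)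
    (hB : ∀ i, ¬ A i → ∃ k, (∀ t, R.x k t * x0 = x0 * R.x k t) ∧ R.b k i ≠ 0 ∧ ∀ j, j ≠ i → R.b k j = 0)
    (hA : ∀ i, A i → ∃ k e, e ≠ 0 ∧ ∀ t, ∃ a, R.x k t * x0 * (R.x k t)⁻¹ = x0 * R.x i (e * t) * R.z a)
    {g : Γ} (hg : g ∈ R.Qg) :
    (∃ k t d, d ≠ 0 ∧ R.x k t * (x0 * g) * (R.x k t)⁻¹ = x0 * g * R.z d) ∨
      ∃ h ∈ R.Qg, ∃ d, h * (x0 * g) * h⁻¹ = x0 * R.z d := by
  obtain ⟨v, a, rfl⟩ := hg
  by_cases hv : ∃ i, ¬ A i ∧ v i ≠ 0
  · left
    obtain ⟨i, hi, hvi⟩ := hv
    obtain ⟨k, h1, h2, h3⟩ := hB i hi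
    refine ⟨k, 1, R.b k i * v i, mul_ne_zero h2 hvi, ?_⟩
    have h4 := R.x_X k 1 v
    rw [Finset.sum_eq_single i (fun j _ hj => by rw [h3 j hj, zero_mul, zero_mul])
      (fun h => absurd (Finset.mem_univ i) h), mul_one] at h4
    rw [mul_inv_eq_iff_eq_mul, ← mul_assoc, h1, mul_assoc x0, ← mul_assoc (R.x k 1), h4]
    simp only [mul_assoc]
    congr 2
    rw [← R.z_add, R.x_z, add_comm, R.z_add, mul_assoc]
  · right
    push Not at hv
    -- reduction of the coordinates in a finite set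
    have key : ∀ s : Finset ι, ∀ w : ι → F, (∀ i, ¬ A i → w i = 0) → (∀ i, i ∉ s → w i = 0) → ∀ a,
        ∃ h ∈ R.Qg, ∃ d, h * (x0 * (R.X w * R.z a)) * h⁻¹ = x0 * R.z d := by
      intro s
      induction s using Finset.induction_on with
      | empty =>
        intro w _ h2 a
        have h3 : w = 0 := funext fun i => h2 i (Finset.notMem_empty i)
        refine ⟨1, one_mem _, a, ?_⟩
        rw [h3, R.X_zero]
        group
      | insert i s hi ih =>
        intro w h1 h2 a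
        by_cases hAi : A i
        · obtain ⟨k, e, he, h3⟩ := hA i hAi
          obtain ⟨b, hb⟩ := h3 (-(w i) / e)
          rw [mul_div_cancel₀ _ he] at hb
          obtain ⟨c, hc⟩ := R.X_add (Pi.single i (-(w i))) w
          rw [R.X_single] at hc
          have h4 := R.x_X k (-(w i) / e) w
          generalize (∑ j, R.b k j * (-(w i) / e) * w j) = f at h4
          have hy : R.x k (-(w i) / e) ∈ R.Qg := R.x_mem k _
          have hyz := R.x_z k (-(w i) / e)
          generalize R.x k (-(w i) / e) = y at hb h4 hy hyz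
          obtain ⟨h, hh, d, hd⟩ := ih (Pi.single i (-(w i)) + w) (fun j hj => by
              rw [Pi.add_apply, h1 j hj, Pi.single_eq_of_ne (fun h => hj (by rw [h]; exact hAi)), add_zero])
            (fun j hj => by
              rcases eq_or_ne j i with rfl | hji
              · rw [Pi.add_apply, Pi.single_eq_same, neg_add_cancel]
              · rw [Pi.add_apply, Pi.single_eq_of_ne hji, zero_add]
                exact h2 j (fun h => (Finset.mem_insert.1 h).elim hji hj)) (b + f + a - c)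
          refine ⟨h * y, mul_mem hh hy, d, ?_⟩
          rw [← hd, mul_inv_rev]
          have h5 : y * (x0 * (R.X w * R.z a)) * y⁻¹ =
              x0 * (R.X (Pi.single i (-(w i)) + w) * R.z (b + f + a - c)) := by
            have e1 : y * (x0 * (R.X w * R.z a)) * y⁻¹ = (y * x0 * y⁻¹) * (y * R.X w) * R.z a * y⁻¹ := by group
            have e2 : R.z c * R.z (b + f + a - c) = R.z b * (R.z f * R.z a) := by
              rw [← R.z_add, ← R.z_add, ← R.z_add]
              congr 1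
              ring
            have e3 : y * (R.z f * R.z a) * y⁻¹ = R.z f * R.z a := by
              rw [← R.z_add, hyz, mul_inv_cancel_right]
            rw [e1, hb, h4, hc]
            calc x0 * R.x i (-(w i)) * R.z b * (R.X w * y * R.z f) * R.z a * y⁻¹
                = x0 * R.x i (-(w i)) * (R.z b * R.X w) * (y * (R.z f * R.z a) * y⁻¹) := by simp only [mul_assoc]
              _ = x0 * (R.x i (-(w i)) * R.X w * (R.z b * (R.z f * R.z a))) := by
                rw [e3, ← R.X_z]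
                simp only [mul_assoc]
              _ = _ := by
                rw [← e2]
                simp only [mul_assoc]
          calc h * y * (x0 * (R.X w * R.z a)) * (y⁻¹ * h⁻¹)
              = h * (y * (x0 * (R.X w * R.z a)) * y⁻¹) * h⁻¹ := by group
            _ = _ := by rw [h5]
        · exact ih w h1 (fun j hj => by
            rcases eq_or_ne j i with rfl | hji
            · exact h1 j hAi
            · exact h2 j (fun h => (Finset.mem_insert.1 h).elim hji hj)) a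
    exact key Finset.univ v (fun i hi => by
      by_contra h
      exact h (by simpa using hv i hi)) (fun i hi => absurd (Finset.mem_univ i) hi) a

end H0

end Cfsg.Agent.H934.FF
end

-- part: H934/FF/AtwoStep
section
/-!
# S2465, `F₄(3)`, piece E1: `r`-elements and the radical of a maximal parabolic subgroup (helper934)

`i`, `j` nodes with `M i j = 3`. An element of `U` with a nontrivial `α_i`-part has a conjugate (under the Levi subgroup
of `{i, j}`) in `U` with a nontrivial `α_j`-part. Hence (with helper537's theorem) every nontrivial `r`-element has a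
conjugate in `U` outside `V_J` for `J ∌ i`, `J ∪ {i} = univ`: in `F₄(q)` outside the radical of the parabolic subgroup of
type `C₃`.
-/

set_option autoImplicit false
set_option linter.unusedSectionVars false

namespace Cfsg.Agent.H934.FF

open CoxeterSystem Cfsg.Agent.ChevalleyStructure.CoxeterGeom Cfsg.Agent.Tits.Roots Cfsg.Agent.Tits.Core
  Cfsg.Agent.Tits.Exchange Cfsg.Agent.Nodes.Reps Cfsg.Agent.Nodes.BNOf Cfsg.Agent.Nodes.StabComb
  Cfsg.Agent.Nodes.Bruhat Cfsg.Agent.Nodes.OppDec Cfsg.Agent.Nodes.LeviDec Cfsg.Agent.H53.HC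
open scoped Pointwise commutatorElement

universe u

variable {I W : Type*} {Y : Type u} [Fintype I] [DecidableEq I] [Group W] [Group Y] {M : CoxeterMatrix I}
  {cs : CoxeterSystem M W} {A : I → I → ℤ} {h : IsCartan M A} {r : ℕ} {T : Subgroup Y} {n : I → Y}
  {X : (I → ℤ) → Subgroup Y}

/-! ### roots of the subsystem `A₂` -/

omit [Group Y] in
theorem pairing_two {i j : I} (hij : i ≠ j) {x : I → ℤ} (hx : ∀ k, k ∉ ({i, j} : Set I) → x k = 0) :
    pairing A i x = A i i * x i + A i j * x j := by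
  unfold pairing
  refine Finset.sum_eq_add i j hij (fun k _ hk => ?_) (fun hi => absurd (Finset.mem_univ _) hi)
    (fun hj => absurd (Finset.mem_univ _) hj)
  rw [hx k (by simp [hk.1, hk.2]), mul_zero]

theorem rep_sr_sr {i j : I} (hij : i ≠ j) (h1 : A i j = -1) : rep cs h (cs.simple i) (sr j) = sr i + sr j := by
  have h2 : pairing A i (sr j) = -1 := by
    rw [pairing_two (A := A) hij (x := sr j) (fun k hk => sr_ne (by rintro rfl; exact hk (by simp)))]
    rw [sr_ne (Ne.symm hij).symm, sr_self, h1]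
    ring
  rw [rep_simple_eq, h2]
  funext k
  simp only [Pi.sub_apply, Pi.add_apply, Pi.smul_apply, smul_eq_mul]
  ring

theorem isRoot_add {i j : I} (hij : i ≠ j) (h1 : A i j = -1) : IsRoot cs h (sr i + sr j) := by
  rw [← rep_sr_sr (cs := cs) (h := h) hij h1]
  exact (isRoot_sr cs h j).act _

theorem posJ_A2 {i j : I} (hij : i ≠ j) (h1 : A i j = -1) (h2 : A j i = -1) {x : I → ℤ}
    (hx : x ∈ PosJ cs h ({i, j} : Set I)) : x = sr i ∨ x = sr j ∨ x = sr i + sr j := by
  obtain ⟨hr, h0, hz⟩ := hx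
  by_cases hi : x = sr i
  · exact Or.inl hi
  by_cases hj : x = sr j
  · exact Or.inr (Or.inl hj)
  right; right
  have e1 := hr.simple_nonneg h0 i hi i
  have e2 := hr.simple_nonneg h0 j hj j
  rw [rep_simple_apply_self, pairing_two (A := A) hij hz, h.diag, h1] at e1
  rw [rep_simple_apply_self, pairing_two (A := A) (Ne.symm hij) (fun k hk => hz k (by
    intro hk'; exact hk (by rcases hk' with rfl | rfl <;> simp))), h.diag, h2] at e2
  simp only [Pi.zero_apply] at e1 e2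
  have e3 : x i = x j := by omega
  have h5 := (hr.act (cs.simple i)).eq_sr (hr.simple_nonneg h0 i hi) j (fun k hk => by
    by_cases hki : k = i
    · subst hki
      rw [rep_simple_apply_self, pairing_two (A := A) hij hz, h.diag, h1]
      omega
    · rw [rep_simple_apply cs h i x k hki]
      exact hz k (by simp [hk, hki]))
  have h6 : rep cs h (cs.simple i) (rep cs h (cs.simple i) x) = x := by
    rw [← rep_mul_apply, cs.simple_mul_simple_self, map_one, Module.End.one_apply]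
  rw [← h6, h5, rep_sr_sr hij h1]

/-! ### the groups -/

section

variable (R : RGD cs h r T n X)

include R

theorem X_le_VJ {J : Set I} {x : I → ℤ} (hx : IsRoot cs h x) (h0 : 0 ≤ x) {k : I} (hk : k ∉ J) (hk0 : 0 < x k) :
    X x ≤ VJ cs h X J := RGD.le_Sup ⟨hx, h0, k, hk, hk0⟩

theorem eq_one_of_mem_VJ [Finite W] {j : I} {x : Y} (hx : x ∈ X (sr j)) (hv : x ∈ VJ cs h X {j}) : x = 1 := by
  have h1 : x ∈ UJ cs h X {j} ⊓ VJ cs h X {j} := ⟨RGD.le_Sup (sr_mem_PosJ (Set.mem_singleton j)) hx, hv⟩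
  rw [UJ_inf_VJ R] at h1
  exact Subgroup.mem_bot.1 h1

/-- an element of `X α_j` commuting with a nontrivial element of `X α_i` is trivial -/
theorem eq_one_of_commute [Finite W] {i j : I} (hij : i ≠ j) (h1 : A i j = -1) {a : Y} (ha : a ∈ X (sr i))
    (ha1 : a ≠ 1) {d : Y} (hd : d ∈ X (sr j)) (hc : d * a = a * d) : d = 1 := by
  have hn := rp_simple cs R.nsys i
  -- `a` moved to the negative root group
  have h2 : (n i)⁻¹ * a * n i ∈ X (-sr i) := by
    have := R.conj_mem' hn (isRoot_sr cs h i) ha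
    rwa [cs.inv_simple, rep_simple_sr] at this
  have h3 : (n i)⁻¹ * a * n i ≠ 1 := by
    intro h4
    apply ha1
    have h5 : a = n i * ((n i)⁻¹ * a * n i) * (n i)⁻¹ := by group
    rw [h5, h4]; group
  obtain ⟨b, hb, t, ht, c, hc', e⟩ := R.rk1 i _ h2 h3
  have hb' : n i * b * (n i)⁻¹ ∈ X (-sr i) := by
    have := R.conj_mem hn (isRoot_sr cs h i) hb
    rwa [rep_simple_sr] at this
  have hc'' : n i * c * (n i)⁻¹ ∈ X (-sr i) := by
    have := R.conj_mem hn (isRoot_sr cs h i) hc'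
    rwa [rep_simple_sr] at this
  -- `d` commutes with `X (-α_i)`
  have hcom : ∀ y ∈ X (-sr i), d * y = y * d := by
    intro y hy
    have h6 := R.comm (-sr i) (sr j) (isRoot_sr cs h i).neg (isRoot_sr cs h j)
      (fun e => by
        have := congrFun e j
        rw [Pi.neg_apply, sr_ne (Ne.symm hij), sr_self] at this
        omega)
      (fun e => by
        have := congrFun e j
        rw [Pi.neg_apply, Pi.neg_apply, sr_ne (Ne.symm hij), sr_self] at this
        omega) y hy d hd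
    have h7 : Nodes.Reps.btw cs h X (-sr i) (sr j) = ⊥ := by
      unfold Cfsg.Agent.Nodes.Reps.btw
      rw [eq_bot_iff]
      refine iSup_le ?_
      rintro ⟨z, hz, m, α, β, hm, hα, hβ, e⟩
      exfalso
      have e1 := congrFun e i
      have e2 := congrFun e j
      simp only [Pi.smul_apply, Pi.add_apply, Pi.neg_apply, smul_eq_mul, sr_self, sr_ne hij, sr_ne (Ne.symm hij)] at e1 e2
      rcases hz.pos_or_neg with h8 | h8
      · have := h8 i
        simp only [Pi.zero_apply] at this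
        nlinarith only [hm, hα, e1, this]
      · have := h8 j
        simp only [Pi.zero_apply] at this
        nlinarith only [hm, hβ, e2, this]
    rw [h7, Subgroup.mem_bot, commutatorElement_eq_one_iff_mul_comm] at h6
    exact h6.symm
  -- the representative `t' n i`
  set k := n i * t * (n i)⁻¹ * n i with hk
  have hkr : Rp cs R.nsys (cs.simple i) k := by
    have h8 : k = n i * t := by rw [hk]; group
    rw [h8]
    have := hn.mul (rp_of_mem (cs := cs) (hN := R.nsys) ht)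
    rwa [mul_one] at this
  have hka : k = (n i * b * (n i)⁻¹)⁻¹ * a * (n i * c * (n i)⁻¹)⁻¹ := by
    have h9 : a = n i * (b * t * n i * c) * (n i)⁻¹ := by rw [← e]; group
    rw [h9, hk]; group
  have hdk : d * k = k * d := by
    have k1 : Commute d (n i * b * (n i)⁻¹) := hcom _ hb'
    have k2 : Commute d (n i * c * (n i)⁻¹) := hcom _ hc''
    have k3 : Commute d a := hc
    rw [hka]
    exact ((k1.inv_right.mul_right k3).mul_right k2.inv_right).eq
  have h10 := R.conj_mem hkr (isRoot_sr cs h j) hd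
  rw [rep_sr_sr hij h1, ← hdk, mul_assoc, mul_inv_cancel, mul_one] at h10
  refine eq_one_of_mem_VJ R hd (X_le_VJ R (isRoot_add hij h1) (add_nonneg (sr_nonneg i) (sr_nonneg j))
    (J := {j}) (k := i) (by simpa using hij) ?_ h10)
  rw [Pi.add_apply, sr_self, sr_ne hij]
  norm_num

theorem btw_A2 {i j : I} (hij : i ≠ j) (h1 : A i j = -1) (h2 : A j i = -1) :
    Nodes.Reps.btw cs h X (sr j) (sr i) ≤ X (sr i + sr j) := by
  unfold Cfsg.Agent.Nodes.Reps.btw
  refine iSup_le ?_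
  rintro ⟨z, hz⟩
  have hpos : z ∈ PosJ cs h ({i, j} : Set I) := by
    refine ⟨hz.1, btwn_nonneg hz (sr_nonneg j) (sr_nonneg i), fun k hk => ?_⟩
    exact btwn_apply_zero hz (sr_ne (by rintro rfl; exact hk (by simp))) (sr_ne (by rintro rfl; exact hk (by simp)))
  rcases posJ_A2 hij h1 h2 hpos with rfl | rfl | rfl
  · exact absurd rfl (btwn_ne_sr hz.symm (sr_nonneg i) (isRoot_sr cs h j) (sr_nonneg j)
      (fun e => hij (by
        by_contra
        have := congrFun e j
        rw [sr_self, sr_ne (Ne.symm hij)] at this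
        omega)))
  · exact absurd rfl (btwn_ne_sr hz (sr_nonneg j) (isRoot_sr cs h i) (sr_nonneg i)
      (fun e => hij (by
        by_contra
        have := congrFun e i
        rw [sr_self, sr_ne hij] at this
        omega)))
  · exact le_refl _

/-- the commutator with a nontrivial element of `X α_i` maps `X α_j` onto `X (α_i + α_j)` -/
theorem exists_comm_eq [Finite Y] [Finite W] {i j : I} (hij : i ≠ j) (h1 : A i j = -1) (h2 : A j i = -1) {a : Y}
    (ha : a ∈ X (sr i)) (ha1 : a ≠ 1) {z : Y} (hz : z ∈ X (sr i + sr j)) : ∃ c ∈ X (sr j), ⁅c, a⁆ = z := by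
  have hne : sr j ≠ sr i := fun e => hij (by
    by_contra
    have := congrFun e i
    rw [sr_self, sr_ne hij] at this
    omega)
  have hne' : sr j ≠ -sr i := fun e => by
    have := congrFun e j
    rw [Pi.neg_apply, sr_self, sr_ne (Ne.symm hij)] at this
    omega
  let f : X (sr j) → X (sr i + sr j) := fun c => ⟨⁅(c : Y), a⁆,
    btw_A2 R hij h1 h2 (R.comm _ _ (isRoot_sr cs h j) (isRoot_sr cs h i) hne hne' c c.2 a ha)⟩
  have hinj : Function.Injective f := by
    intro c c' e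
    have e1 : ⁅(c : Y), a⁆ = ⁅(c' : Y), a⁆ := congrArg Subtype.val e
    rw [commutatorElement_def, commutatorElement_def, mul_left_inj] at e1
    have e2 : ((c' : Y)⁻¹ * c) * a = a * ((c' : Y)⁻¹ * c) := by
      have e3 : (c' : Y)⁻¹ * ((c : Y) * a * (c : Y)⁻¹) * c = (c' : Y)⁻¹ * ((c' : Y) * a * (c' : Y)⁻¹) * c := by rw [e1]
      calc ((c' : Y)⁻¹ * c) * a = (c' : Y)⁻¹ * ((c : Y) * a * (c : Y)⁻¹) * c := by group
        _ = _ := e3
        _ = _ := by group
    have e4 := eq_one_of_commute R hij h1 ha ha1 (mul_mem (inv_mem c'.2) c.2) e2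
    exact Subtype.ext (inv_mul_eq_one.1 e4).symm
  have hcard : Nat.card (X (sr j)) = Nat.card (X (sr i + sr j)) := by
    have h3 := R.conj i _ (isRoot_sr cs h j)
    rw [rep_sr_sr hij h1] at h3
    rw [← h3]
    exact (Subgroup.card_map_of_injective (MulAut.conj (n i)).injective).symm
  have hbij := (Nat.bijective_iff_injective_and_card f).2 ⟨hinj, hcard⟩
  obtain ⟨c, hc⟩ := hbij.2 ⟨z, hz⟩
  exact ⟨c, c.2, congrArg Subtype.val hc⟩

theorem mem_Sup_singleton {S : Set (I → ℤ)} {z : I → ℤ} (hS : ∀ x ∈ S, x = z) {a : Y} (ha : a ∈ RGD.Sup X S) :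
    a ∈ X z := by
  refine (RGD.Sup_le (K := X z) (fun x hx => ?_)) ha
  rw [hS x hx]

/-- `X α_j` commutes with `X (α_i + α_j)` -/
theorem comm_A2 {i j : I} (hij : i ≠ j) (h1 : A i j = -1) (h2 : A j i = -1) {c z : Y} (hc : c ∈ X (sr j))
    (hz : z ∈ X (sr i + sr j)) : c * z = z * c := by
  have hne : sr j ≠ sr i + sr j := fun e => by
    have := congrFun e i
    rw [Pi.add_apply, sr_self, sr_ne hij] at this
    omega
  have hne' : sr j ≠ -(sr i + sr j) := fun e => by
    have := congrFun e j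
    rw [Pi.neg_apply, Pi.add_apply, sr_self, sr_ne (Ne.symm hij)] at this
    omega
  have h3 := R.comm _ _ (isRoot_sr cs h j) (isRoot_add hij h1) hne hne' c hc z hz
  have h4 : Nodes.Reps.btw cs h X (sr j) (sr i + sr j) = ⊥ := by
    unfold Cfsg.Agent.Nodes.Reps.btw
    rw [eq_bot_iff]
    refine iSup_le ?_
    rintro ⟨w, hw⟩
    exfalso
    have hpos : w ∈ PosJ cs h ({i, j} : Set I) := by
      refine ⟨hw.1, btwn_nonneg hw (sr_nonneg j) (add_nonneg (sr_nonneg i) (sr_nonneg j)), fun k hk => ?_⟩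
      have hki : k ≠ i := by rintro rfl; exact hk (by simp)
      have hkj : k ≠ j := by rintro rfl; exact hk (by simp)
      exact btwn_apply_zero hw (sr_ne hkj) (by rw [Pi.add_apply, sr_ne hki, sr_ne hkj, add_zero])
    obtain ⟨-, m, a, b, hm, ha, hb, e⟩ := hw
    have e1 := congrFun e i
    have e2 := congrFun e j
    rcases posJ_A2 hij h1 h2 hpos with rfl | rfl | rfl <;>
      simp only [Pi.smul_apply, Pi.add_apply, smul_eq_mul, sr_self, sr_ne hij, sr_ne (Ne.symm hij)] at e1 e2 <;>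
      linarith only [ha, hb, e2, e1]
  rw [h4, Subgroup.mem_bot, commutatorElement_eq_one_iff_mul_comm] at h3
  exact h3

/-- **the step**: from a nontrivial `α_i`-part to a nontrivial `α_j`-part -/
theorem exists_conj_step [Finite Y] [Finite W] {i j : I} (hij : i ≠ j) (h1 : A i j = -1) (h2 : A j i = -1) {g : Y}
    (hg : g ∈ RGD.Sup X (RGD.Pos cs h)) (hgi : g ∉ VJ cs h X {i}) :
    ∃ x ∈ LJ cs h T X ({i, j} : Set I), x * g * x⁻¹ ∈ RGD.Sup X (RGD.Pos cs h) ∧ x * g * x⁻¹ ∉ VJ cs h X {j} := by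
  by_cases hgj : g ∈ VJ cs h X {j}
  swap
  · exact ⟨1, one_mem _, by simpa using hg, by simpa using hgj⟩
  obtain ⟨l, hl, v, hv, rfl⟩ := (mem_U_iff R (J := ({i, j} : Set I))).1 hg
  have hanti : ∀ {J J' : Set I}, J ⊆ J' → VJ cs h X J' ≤ VJ cs h X J := by
    intro J J' hJ
    refine RGD.Sup_mono ?_
    rintro x ⟨hx, h0, k, hk, hk0⟩
    exact ⟨hx, h0, k, fun hk' => hk (hJ hk'), hk0⟩
  have hVi : VJ cs h X ({i, j} : Set I) ≤ VJ cs h X {i} := hanti (by simp)
  have hVj : VJ cs h X ({i, j} : Set I) ≤ VJ cs h X {j} := hanti (by simp)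
  have hlj : l ∈ VJ cs h X {j} := by
    have h3 : l = (l * v) * v⁻¹ := by group
    rw [h3]
    exact mul_mem hgj (inv_mem (hVj hv))
  have hcl : ∀ {x y z : I → ℤ}, x ∈ PosJ cs h ({i, j} : Set I) → y ∈ PosJ cs h ({i, j} : Set I) → Btwn cs h x y z →
      z ∈ PosJ cs h ({i, j} : Set I) := fun hx hy hz =>
    ⟨hz.1, btwn_nonneg hz hx.2.1 hy.2.1, fun k hk => btwn_apply_zero hz (hx.2.2 k hk) (hy.2.2 k hk)⟩
  have hi0 : sr i ∈ PosJ cs h ({i, j} : Set I) := sr_mem_PosJ (by simp)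
  have hj0 : sr j ∈ PosJ cs h ({i, j} : Set I) := sr_mem_PosJ (by simp)
  have hsri : sr j ≠ sr i := fun e => hij (by
    by_contra
    have := congrFun e i
    rw [sr_self, sr_ne hij] at this
    omega)
  -- first factor
  obtain ⟨m, hm, xj, hxj, e1⟩ := exists_mul R (S := PosJ cs h ({i, j} : Set I)) (i := j)
    (fun x hx => ⟨hx.1, hx.2.1⟩) hj0 (fun y hy _ z hz => hcl hj0 hy hz) hl
  have hmV : m ∈ VJ cs h X {j} := by
    refine (RGD.Sup_mono ?_) hm
    rintro x ⟨hx, hxj'⟩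
    refine ⟨hx.1, hx.2.1, i, by simpa using hij, ?_⟩
    rcases posJ_A2 hij h1 h2 hx with rfl | rfl | rfl
    · rw [sr_self]; norm_num
    · exact absurd rfl hxj'
    · rw [Pi.add_apply, sr_self, sr_ne hij]; norm_num
  have hxj1 : xj = 1 := by
    refine eq_one_of_mem_VJ R hxj ?_
    have h3 : xj = m⁻¹ * l := by rw [e1]; group
    rw [h3]
    exact mul_mem (inv_mem hmV) hlj
  rw [hxj1, mul_one] at e1
  subst e1
  -- second factor
  obtain ⟨z, hz, a, ha, e2⟩ := exists_mul R (S := PosJ cs h ({i, j} : Set I) \ {sr j}) (i := i)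
    (fun x hx => ⟨hx.1.1, hx.1.2.1⟩) ⟨hi0, fun e => hsri e.symm⟩ (fun y hy _ w hw => ⟨hcl hi0 hy.1 hw, by
      intro e
      have h3 : 0 < w i := btwn_apply_pos hw (by rw [sr_self]; norm_num) (hy.1.2.1 i)
      rw [Set.mem_singleton_iff.1 e, sr_ne hij] at h3
      omega⟩) hm
  have hz' : z ∈ X (sr i + sr j) := by
    refine mem_Sup_singleton R ?_ hz
    rintro x ⟨⟨hx, hxj'⟩, hxi⟩
    rcases posJ_A2 hij h1 h2 hx with rfl | rfl | rfl
    · exact absurd rfl hxi
    · exact absurd rfl hxj'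
    · rfl
  have ha1 : a ≠ 1 := by
    rintro rfl
    apply hgi
    rw [e2, mul_one]
    refine mul_mem (X_le_VJ R (isRoot_add hij h1) (add_nonneg (sr_nonneg i) (sr_nonneg j)) (J := {i}) (k := j)
      (by simpa using Ne.symm hij) ?_ hz') (hVi hv)
    rw [Pi.add_apply, sr_self, sr_ne (Ne.symm hij)]
    norm_num
  obtain ⟨c, hc, e3⟩ := exists_comm_eq R hij h1 h2 ha ha1 (inv_mem hz')
  have e4 : c * (z * a) * c⁻¹ = a := by
    have e5 : c * a * c⁻¹ = z⁻¹ * a := by
      rw [← e3, commutatorElement_def]; group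
    have e6 := comm_A2 R hij h1 h2 hc hz'
    calc c * (z * a) * c⁻¹ = (c * z) * c⁻¹ * (c * a * c⁻¹) := by group
      _ = (z * c) * c⁻¹ * (z⁻¹ * a) := by rw [e5, e6]
      _ = a := by group
  have hni := rp_simple cs R.nsys i
  have hnj := rp_simple cs R.nsys j
  have e7 : n j * a * (n j)⁻¹ ∈ X (sr j + sr i) := by
    have := R.conj_mem hnj (isRoot_sr cs h i) ha
    rwa [rep_sr_sr (Ne.symm hij) h2] at this
  have e8 : n i * (n j * a * (n j)⁻¹) * (n i)⁻¹ ∈ X (sr j) := by
    have := R.conj_mem hni (isRoot_add (Ne.symm hij) h2) e7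
    rwa [map_add, rep_sr_sr hij h1, rep_simple_sr, add_comm (sr i), add_neg_cancel_right] at this
  set x := n i * n j * c with hx
  have hxL : x ∈ LJ cs h T X ({i, j} : Set I) :=
    mul_mem (mul_mem (n_mem_LJ R (by simp)) (n_mem_LJ R (by simp))) (X_le_LJ (PosJ_subset _ hj0) hc)
  have e9 : x * l * x⁻¹ = n i * (n j * a * (n j)⁻¹) * (n i)⁻¹ := by
    calc x * l * x⁻¹ = n i * (n j * (c * (z * a) * c⁻¹) * (n j)⁻¹) * (n i)⁻¹ := by rw [e2, hx]; group
      _ = _ := by rw [e4]
  have e10 : x * (l * v) * x⁻¹ = (x * l * x⁻¹) * (x * v * x⁻¹) := by group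
  have hv' : x * v * x⁻¹ ∈ VJ cs h X ({i, j} : Set I) :=
    (Subgroup.mem_normalizer_iff.1 (LJ_le_normalizer_VJ R _ hxL) v).1 hv
  refine ⟨x, hxL, ?_, ?_⟩
  · rw [e10, e9]
    exact mul_mem (RGD.le_Sup (S := RGD.Pos cs h) (z := sr j) ⟨isRoot_sr cs h j, sr_nonneg j⟩ e8) (VJ_le_U _ hv')
  · intro hcon
    rw [e10, e9] at hcon
    have h3 : n i * (n j * a * (n j)⁻¹) * (n i)⁻¹ ∈ VJ cs h X {j} := by
      have h4 := mul_mem hcon (inv_mem (hVj hv'))
      rwa [mul_inv_cancel_right] at h4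
    have h5 := eq_one_of_mem_VJ R e8 h3
    apply ha1
    have h6 : a = (n j)⁻¹ * ((n i)⁻¹ * (n i * (n j * a * (n j)⁻¹) * (n i)⁻¹) * n i) * n j := by group
    rw [h6, h5]
    group

/-- **every nontrivial `r`-element has a conjugate in `U` outside `V_J`**, `J ∪ {i} = univ`, `j ∈ J` joined to `i` by a
simple edge -/
theorem exists_conj_notMem [Finite Y] [Finite W] [Nonempty I] [Fact r.Prime] (hG : GG cs h T X = ⊤)
    (hS : IsSimpleGroup Y) {J : Set I} {i j : I} (hJ : ∀ k, k ∈ J ∨ k = i) (hj : j ∈ J) (hij : i ≠ j)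
    (h1 : A i j = -1) (h2 : A j i = -1) {g : Y} (hg1 : g ≠ 1) {k : ℕ} (hg : g ^ r ^ k = 1) :
    ∃ x : Y, x * g * x⁻¹ ∈ RGD.Sup X (RGD.Pos cs h) ∧ x * g * x⁻¹ ∉ VJ cs h X J := by
  have hJ' : ∀ k, k ∈ J ∨ k ∈ ({i} : Set I) := fun k => (hJ k).imp_right fun e => by simpa using e
  obtain ⟨x, hx, h3 | h3⟩ := H537.Pw.exists_conj_notMem_VJ R hG hS hJ' hg1 hg
  · exact ⟨x, hx, h3⟩
  · obtain ⟨y, -, h4, h5⟩ := exists_conj_step R hij h1 h2 hx h3
    refine ⟨y * x, ?_, ?_⟩
    · have e : y * x * g * (y * x)⁻¹ = y * (x * g * x⁻¹) * y⁻¹ := by group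
      rw [e]; exact h4
    · have e : y * x * g * (y * x)⁻¹ = y * (x * g * x⁻¹) * y⁻¹ := by group
      rw [e]
      intro h6
      apply h5
      refine (RGD.Sup_mono ?_) h6
      rintro z ⟨hz, h0, k, hk, hk0⟩
      exact ⟨hz, h0, k, fun hk' => hk (by rw [Set.mem_singleton_iff.1 hk']; exact hj), hk0⟩

end

end Cfsg.Agent.H934.FF
end

-- part: H934/FF/EOne
section
/-!
# S2465, `F₄(3)`, (U1): conjugates of `r`-elements of `F₄(q)` outside the radicals of `P_{C₃}` and `P_{B₃}` (helper934)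

Nodes of `chevF4`: `0`, `1` short, `2`, `3` long. `exists_conj_notMem_C3` : `J = {0, 1, 2}`; `exists_conj_notMem_B3` :
`J = {1, 2, 3}`.
-/

set_option autoImplicit false
set_option linter.unusedSectionVars false

namespace Cfsg.Agent.H934.FF

open CoxeterSystem Cfsg.Agent.ChevalleyStructure.CoxeterGeom Cfsg.Agent.Tits.Roots Cfsg.Agent.Tits.Core
  Cfsg.Agent.Nodes.Reps Cfsg.Agent.Nodes.BNOf Cfsg.Agent.Nodes.RGDLib Cfsg.Agent.Nodes.Bruhat
  Cfsg.Agent.Nodes.OppDec Cfsg.Agent.Nodes.LeviDec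
open Cfsg.Lie Cfsg.Agent.ChevalleyStructure Cfsg.Agent.ChevalleyStructure.CoxeterGeomTypes
  Cfsg.Agent.Nodes.RGDChev Cfsg.Agent.KFacts.RgdChevCoord Cfsg.Agent.H537.Pw

universe u

variable {K : Type u} [Field K] {D : ChevalleyDatum} {l : ℕ} {M : CoxeterMatrix (Fin l)} (hp : IsType D l M)

include hp in
theorem exists_conj_chev [Finite K] {r : ℕ} [Fact r.Prime] [CharP K r] (hs : IsSimpleGroup ↥(D.group K))
    {J : Set (Fin l)} {i j : Fin l} (hJ : ∀ k, k ∈ J ∨ k = i) (hj : j ∈ J) (hij : i ≠ j)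
    (h1 : cartanOf D l i j = -1) (h2 : cartanOf D l j i = -1)
    {g : ↥(D.group K)} (hg1 : g ≠ 1) {k : ℕ} (hg : g ^ r ^ k = 1) :
    ∃ x : ↥(D.group K), x * g * x⁻¹ ∈ RGD.Sup (XX D l K) (RGD.Pos M.toCoxeterSystem hp.isCartan) ∧
      x * g * x⁻¹ ∉ VJ M.toCoxeterSystem hp.isCartan (XX D l K) J := by
  have R := Cfsg.Agent.Nodes.RGDChev.rgd (K := K) hp M.toCoxeterSystem r
  have := finite_W hp M.toCoxeterSystem
  have : Nonempty (Fin l) := ⟨i⟩
  have hG1 := G1_eq_top hp (K := K) M.toCoxeterSystem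
  have hG : GG M.toCoxeterSystem hp.isCartan ((D.diagonalSubgroup K).subgroupOf (D.group K)) (XX D l K) = ⊤ := by
    rw [eq_top_iff, ← hG1]
    exact le_sup_right
  exact exists_conj_notMem R hG hs hJ hj hij h1 h2 hg1 hg

/-- **(U1)** every nontrivial `r`-element of `F₄(q)` has a conjugate in `U` outside the radical of type `C₃` -/
theorem exists_conj_notMem_C3 [Finite K] {r : ℕ} [Fact r.Prime] [CharP K r]
    (hs : IsSimpleGroup ↥(chevF4.group K)) {g : ↥(chevF4.group K)} (hg1 : g ≠ 1) {k : ℕ} (hg : g ^ r ^ k = 1) :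
    ∃ x : ↥(chevF4.group K), x * g * x⁻¹ ∈ RGD.Sup (XX chevF4 4 K)
        (RGD.Pos CoxeterMatrix.F₄.toCoxeterSystem isType_F4.isCartan) ∧
      x * g * x⁻¹ ∉ VJ CoxeterMatrix.F₄.toCoxeterSystem isType_F4.isCartan (XX chevF4 4 K) ({0, 1, 2} : Set (Fin 4)) :=
  exists_conj_chev isType_F4 hs (i := 3) (j := 2) (by
    intro k
    (revert k; simp only [_root_.Fin.forall_fin_succ, Fin.isValue, _root_.Set.mem_insert_iff, _root_.Set.mem_singleton_iff, _root_.zero_ne_one, Fin.reduceEq, _root_.or_self, _root_.or_false, _root_.Fin.succ_ne_zero, _root_.false_or, _root_.Fin.succ_zero_eq_one, _root_.Fin.succ_one_eq_two, _root_.or_true, Fin.reduceSucc, _root_.IsEmpty.forall_iff, _root_.and_self])) (by simp) (by decide) (by decide +kernel) (by decide +kernel) hg1 hg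

end Cfsg.Agent.H934.FF
end

-- part: H934/FF/UThree
section
/-!
# S2465, `F₄(3)`, (U3) (helper934)

`G = F₄(K)`, `char K ≠ 2`, `V_J`, `J = {0, 1, 2}` (type `C₃`), of order `q^(1+14)`; `a₂` = root number `25` (the long
fundamental root of `C₃`), `θ` = root number `47`. `uThree`: for `v ∈ V_J`, `c ≠ 0`, either some `y ∈ V_J` has
`y (x_{a₂}(c) v) y⁻¹ = x_{a₂}(c) v x_θ(d)`, `d ≠ 0`, or `x_{a₂}(c) v` is conjugate to some `x_{a₂}(c) x_θ(d)`.
-/

set_option autoImplicit false
set_option linter.unusedSectionVars false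

namespace Cfsg.Agent.H934.FF

open CoxeterSystem Cfsg.Agent.ChevalleyStructure.CoxeterGeom Cfsg.Agent.Tits.Roots Cfsg.Agent.Tits.Core
  Cfsg.Agent.Nodes.Reps Cfsg.Agent.Nodes.BNOf Cfsg.Agent.Nodes.RGDLib Cfsg.Agent.Nodes.Bruhat
  Cfsg.Agent.Nodes.OppDec Cfsg.Agent.Nodes.LeviDec Cfsg.Agent.Nodes.StabComb
open Cfsg.Lie Cfsg.Agent.ChevalleyStructure Cfsg.Agent.ChevalleyStructure.Elts
  Cfsg.Agent.ChevalleyStructure.CoxeterGeomTypes
  Cfsg.Agent.Nodes.RGDChev Cfsg.Agent.KFacts.RgdChevCoord Cfsg.Agent.H934.HeisChev Cfsg.Agent.H537.Pw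

universe u

section Word

variable {D : ChevalleyDatum} (hD : InList D) {F : Type u} [Field F]

/-- commutator formula with two terms, the second one of degree `(1, 2)` -/
theorem comm_two {r s l l' : ℕ} {c c' : ℤ} (hr : r < D.nroots) (hs : s < D.nroots) (hrs : s ≠ r) (hneg : s ≠ D.neg r)
    (h : D.commTerms r s = [(l, c, 1, 1), (l', c', 1, 2)]) (t u : F) :
    xe hD s u * xe hD r t = xe hD r t * xe hD s u * (xe hD l (-(c : F) * t * u) * xe hD l' (-(c' : F) * t * u ^ 2)) := by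
  have h1 := Cfsg.Agent.S1025.result (F := F) D hD r s hr hs hrs hneg t u
  have h2 : D.commWord F r s t u = [(l, -(c : F) * t * u), (l', -(c' : F) * t * u ^ 2)] := by
    show (D.commTerms r s).map _ = _
    rw [h]
    simp only [List.map_cons, List.map_nil, pow_one]
    congr 2
    · ring
    · congr 1
      congr 1
      ring
  rw [h2, wordMat_cons, wordMat_cons, wordMat_nil, mul_one] at h1
  exact Subtype.ext (Units.ext h1)

end Word

theorem hF : InList chevF4 := isType_F4.inList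

/-- the roots `b` with `(b, θ) > 0`, `b ≠ θ` -/
def S14 : Fin 14 → ℕ := ![24, 26, 29, 31, 32, 36, 38, 39, 40, 42, 43, 44, 45, 46]

/-- structure constants -/
def e14 : Fin 14 → ℤ := ![-1, -1, -2, 1, -1, -2, 2, -2, 2, 1, -1, 2, 1, 1]

theorem S14_lt : ∀ i, S14 i < chevF4.nroots := by decide +kernel

theorem S14_comm : ∀ i j, i ≠ j → S14 i ≠ S14 j ∧ S14 i ≠ chevF4.neg (S14 j) ∧
    chevF4.commTerms (S14 j) (S14 i) = if j = i.rev then [(47, e14 i, 1, 1)] else [] := by decide +kernel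

theorem S14_th : ∀ i, 47 ≠ S14 i ∧ 47 ≠ chevF4.neg (S14 i) ∧ chevF4.commTerms (S14 i) 47 = [] := by decide +kernel

theorem e14_cast {F : Type u} [Field F] (h2 : (2 : F) ≠ 0) (i : Fin 14) : (e14 i : F) ≠ 0 := by
  (revert i; simp only [e14, h2, _root_.Fin.forall_fin_succ, Int.reduceNeg, _root_.ne_eq, Fin.isValue, _root_.Matrix.cons_val_zero, _root_.Int.cast_neg, _root_.Int.cast_one, _root_.neg_eq_zero, _root_.one_ne_zero, _root_.not_false_eq_true, _root_.Matrix.cons_val_succ, _root_.Int.cast_ofNat, _root_.Matrix.cons_val_fin_one, _root_.implies_true, _root_.and_self])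

/-- the coordinates of `V_J`, `J = {0, 1, 2}` -/
noncomputable def hh (F : Type u) [Field F] : H0 ↥(chevF4.group F) F (Fin 14) where
  x := fun i => xe hF (S14 i)
  z := xe hF 47
  x_add := fun i s t => xe_add hF _ s t
  z_add := fun s t => xe_add hF _ s t
  x_z := fun i t a => (comm_nil hF (S14_lt i) (by decide +kernel) (S14_th i).1 (S14_th i).2.1 (S14_th i).2.2 t a).symm
  b := fun i j => if j = i.rev then -(e14 i : F) else 0
  x_comm := by
    intro i j s t
    rcases eq_or_ne i j with rfl | hij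
    · have h : i ≠ i.rev := by
        revert i
        decide
      rw [if_neg h, zero_mul, zero_mul, xe_zero, mul_one, ← xe_add, ← xe_add, add_comm]
    · obtain ⟨h1, h2, h3⟩ := S14_comm i j hij
      split_ifs with h
      · rw [if_pos h] at h3
        rw [comm_single hF (S14_lt j) (S14_lt i) h1 h2 h3 t s]
        congr 2
        ring
      · rw [if_neg h] at h3
        rw [comm_nil hF (S14_lt j) (S14_lt i) h1 h2 h3 t s, zero_mul, zero_mul, xe_zero, mul_one]

theorem xc_eq_xe {F : Type u} [Field F] {r : ℕ} (hr : r < 48) (a : F) :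
    xc isType_F4 (vec chevF4 4 r) a = xe hF r a := Subtype.ext (coe_xc isType_F4 hr a)

theorem mem_XX_iff {F : Type u} [Field F] {r : ℕ} (hr : r < 48) (y : ↥(chevF4.group F)) :
    y ∈ XX chevF4 4 F (vec chevF4 4 r) ↔ ∃ a, y = xc isType_F4 (vec chevF4 4 r) a := by
  rw [Subgroup.mem_subgroupOf, XV_vec isType_F4 F hr, mem_rootSubgroup_iff hF]
  constructor
  · rintro ⟨a, ha⟩
    exact ⟨a, Subtype.ext (by rw [coe_xc isType_F4 hr, ha])⟩
  · rintro ⟨a, rfl⟩
    exact ⟨a, coe_xc isType_F4 hr a⟩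

/-- `V_J` in coordinates -/
theorem VJ_le_Qg (F : Type u) [Field F] : VJ CoxeterMatrix.F₄.toCoxeterSystem isType_F4.isCartan (XX chevF4 4 F)
    ({0, 1, 2} : Set (Fin 4)) ≤ (hh F).Qg := by
  refine iSup_le ?_
  rintro ⟨b, hb, hb0, k, hk, hbk⟩
  obtain ⟨r, hr, rfl⟩ := (isRoot_iff isType_F4 _ b).1 hb
  have hk3 : k = 3 := by
    revert hk
    (revert k; simp only [_root_.Fin.forall_fin_succ, Fin.isValue, _root_.Set.mem_insert_iff, _root_.Set.mem_singleton_iff, _root_.not_or, _root_.and_imp, _root_.not_true_eq_false, _root_.zero_ne_one, _root_.not_false_eq_true, Fin.reduceEq, _root_.imp_false, _root_.imp_self, _root_.implies_true, _root_.Fin.succ_ne_zero, _root_.forall_const, _root_.Fin.succ_zero_eq_one, _root_.Fin.succ_one_eq_two, Fin.reduceSucc, _root_.IsEmpty.forall_iff, _root_.and_self])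
  subst hk3
  have h1 : r = 47 ∨ ∃ i, S14 i = r := by
    have key : ∀ r : Fin 48, 0 < vec chevF4 4 r.val 3 → r.val = 47 ∨ ∃ i, S14 i = r.val := by decide +kernel
    exact key ⟨r, hr⟩ hbk
  intro g hg
  obtain ⟨a, rfl⟩ := (mem_XX_iff hr g).1 hg
  rw [xc_eq_xe hr]
  rcases h1 with rfl | ⟨i, rfl⟩
  · exact (hh F).z_mem a
  · exact (hh F).x_mem i a

theorem x_mem_VJ {F : Type u} [Field F] (i : Fin 14) (t : F) : (hh F).x i t ∈
    VJ CoxeterMatrix.F₄.toCoxeterSystem isType_F4.isCartan (XX chevF4 4 F) ({0, 1, 2} : Set (Fin 4)) := by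
  have hS : vec chevF4 4 (S14 i) ∈ NotJ CoxeterMatrix.F₄.toCoxeterSystem isType_F4.isCartan ({0, 1, 2} : Set (Fin 4)) := by
    refine ⟨isRoot_vec isType_F4 _ (S14_lt i), ?_, 3, by simp, ?_⟩
    · intro j
      revert i j
      decide +kernel
    · revert i
      decide +kernel
  refine (le_iSup (fun z : NotJ CoxeterMatrix.F₄.toCoxeterSystem isType_F4.isCartan ({0, 1, 2} : Set (Fin 4)) =>
    XX chevF4 4 F z.1) ⟨_, hS⟩) ?_
  rw [mem_XX_iff (S14_lt i)]
  exact ⟨t, (xc_eq_xe (S14_lt i) t).symm⟩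

/-- the indices `i` such that `S14 i - a₂` is a root -/
def A14 (i : Fin 14) : Prop := i = 1 ∨ i = 4 ∨ i = 7 ∨ i = 10 ∨ i = 13

instance : DecidablePred A14 := fun i => by unfold A14; infer_instance

theorem B14 : ∀ i, ¬ A14 i → S14 i.rev ≠ 25 ∧ S14 i.rev ≠ chevF4.neg 25 ∧ chevF4.commTerms 25 (S14 i.rev) = [] := by
  decide +kernel

theorem stepA {F : Type u} [Field F] {k i : Fin 14} {c : ℤ} (h25 : S14 k ≠ 25 ∧ S14 k ≠ chevF4.neg 25)
    (h : chevF4.commTerms 25 (S14 k) = [(S14 i, c, 1, 1)] ∨ ∃ c', chevF4.commTerms 25 (S14 k) = [(S14 i, c, 1, 1), (47, c', 1, 2)])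
    (hc : c * c = 1) {t0 : F} (ht : t0 ≠ 0) :
    ∃ k : Fin 14, ∃ e : F, e ≠ 0 ∧ ∀ t, ∃ a, (hh F).x k t * xe hF 25 t0 * ((hh F).x k t)⁻¹ =
      xe hF 25 t0 * (hh F).x i (e * t) * (hh F).z a := by
  refine ⟨k, -(c : F) * t0, mul_ne_zero (neg_ne_zero.2 (cast_ne_zero hc)) ht, fun t => ?_⟩
  have h1 : ∃ a, (hh F).x k t * xe hF 25 t0 = xe hF 25 t0 * (hh F).x k t * ((hh F).x i (-(c : F) * t0 * t) * (hh F).z a) := by
    rcases h with h | ⟨c', h⟩
    · refine ⟨0, ?_⟩
      rw [(hh F).z_zero, mul_one]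
      exact comm_single hF (by decide +kernel) (S14_lt k) h25.1 h25.2 h t0 t
    · exact ⟨_, comm_two hF (by decide +kernel) (S14_lt k) h25.1 h25.2 h t0 t⟩
  obtain ⟨a, ha⟩ := h1
  refine ⟨(hh F).b k i * t * (-(c : F) * t0 * t) + a, ?_⟩
  rw [ha, mul_assoc (xe hF 25 t0), ← mul_assoc ((hh F).x k t), (hh F).x_comm, mul_assoc _ _ ((hh F).z a), ← (hh F).z_add,
    mul_assoc ((hh F).x i _), (hh F).x_z, ← mul_assoc, ← mul_assoc, mul_inv_cancel_right]

/-- **(U3)** -/
theorem uThree {K : Type u} [Field K] (h2 : (2 : K) ≠ 0) {v : ↥(chevF4.group K)}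
    (hv : v ∈ VJ CoxeterMatrix.F₄.toCoxeterSystem isType_F4.isCartan (XX chevF4 4 K) ({0, 1, 2} : Set (Fin 4)))
    {c : K} (hc : c ≠ 0) :
    (∃ y ∈ VJ CoxeterMatrix.F₄.toCoxeterSystem isType_F4.isCartan (XX chevF4 4 K) ({0, 1, 2} : Set (Fin 4)),
      ∃ d : K, d ≠ 0 ∧ y * (xc isType_F4 (vec chevF4 4 25) c * v) * y⁻¹ =
        xc isType_F4 (vec chevF4 4 25) c * v * xc isType_F4 (vec chevF4 4 47) d) ∨
    ∃ (h : ↥(chevF4.group K)) (d : K), h * (xc isType_F4 (vec chevF4 4 25) c * v) * h⁻¹ =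
      xc isType_F4 (vec chevF4 4 25) c * xc isType_F4 (vec chevF4 4 47) d := by
  simp only [xc_eq_xe (show 25 < 48 by norm_num), xc_eq_xe (show 47 < 48 by norm_num)]
  have h25 : 25 < chevF4.nroots := by decide +kernel
  rcases (hh K).engine (x0 := xe hF 25 c) A14
    (fun a => (comm_nil hF h25 (show 47 < chevF4.nroots by decide +kernel) (by decide +kernel) (by decide +kernel)
      (by decide +kernel) c a).symm)
    (fun i hi => ⟨i.rev, fun t => comm_nil hF h25 (S14_lt _) (B14 i hi).1 (B14 i hi).2.1 (B14 i hi).2.2 c t, by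
      show (if i = i.rev.rev then -(e14 i.rev : K) else 0) ≠ 0
      rw [if_pos (Fin.rev_rev i).symm]
      exact neg_ne_zero.2 (e14_cast h2 _), fun j hj => by
      show (if j = i.rev.rev then -(e14 i.rev : K) else 0) = 0
      rw [if_neg (by rwa [Fin.rev_rev])]⟩)
    (fun i hi => by
      rcases hi with rfl | rfl | rfl | rfl | rfl
      · exact stepA (k := 0) (c := -1) (by decide +kernel) (Or.inl (by decide +kernel)) (by norm_num) hc
      · exact stepA (k := 3) (c := 1) (by decide +kernel) (Or.inl (by decide +kernel)) (by norm_num) hc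
      · exact stepA (k := 6) (c := 1) (by decide +kernel) (Or.inr ⟨1, by decide +kernel⟩) (by norm_num) hc
      · exact stepA (k := 9) (c := 1) (by decide +kernel) (Or.inl (by decide +kernel)) (by norm_num) hc
      · exact stepA (k := 12) (c := 1) (by decide +kernel) (Or.inl (by decide +kernel)) (by norm_num) hc)
    (VJ_le_Qg K hv) with ⟨k, t, d, hd, h⟩ | ⟨h, -, d, hh⟩
  · exact Or.inl ⟨_, x_mem_VJ k t, d, hd, h⟩
  · exact Or.inr ⟨h, d, hh⟩

end Cfsg.Agent.H934.FF
end

private theorem dce_ec75ac6ce452 : _root_.True := by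
  try have : _root_.True := by simp only [_root_.Cfsg.Agent.H934.FF.H0.P.eq_1]
  try have : _root_.True := by simp only [_root_.Cfsg.Agent.H700.F43.cX.eq_1]
  try have : _root_.True := by simp only [_root_.Cfsg.Agent.H700.F43.ww.eq_1]
  try have : _root_.True := by simp only [_root_.Cfsg.Agent.H700.F43.cY.eq_1]
  try have : _root_.True := by simp only [_root_.Cfsg.Agent.H700.F43.d3.eq_1]
  try have : _root_.True := by simp only [_root_.Cfsg.Agent.H934.FF.e14.eq_1]
  exact _root_.True.intro
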